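import Groth.Agent.Funfld2.Residue.Geometric
import Groth.Agent.Funfld2.Residue.Local
import Groth.Agent.FunFld1.Extension
import Mathlib.FieldTheory.Separable

/-! The different exponent through expansions. -/

open FunFld Groth.FunFld1
open WithZero (exp)
open scoped LaurentSeries WithZero

namespace Groth.Funfld2.Different

section

variable {k K F : Type*} [Field k] [Field K] [Algebra k K] [Field F] [Algebra k F]

/-- Derivatives of expansions follow Kähler differentials. -/
theorem dExp_smul (φ : K →ₐ[k] F⸨X⸩) {x z c : K}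
    (h : c • KaehlerDifferential.D k K z = KaehlerDifferential.D k K x) :
    LocRes.D F (φ x) = φ c * LocRes.D F (φ z) := by
  let _i := φ.toRingHom.toAlgebra
  have _t : IsScalarTower k K F⸨X⸩ := LocRes.isScalarTower_exp φ
  have : LocRes.dExp φ x = c • LocRes.dExp φ z := by
    rw [← Derivation.liftKaehlerDifferential_comp_D (LocRes.dExp φ) x, ← h, map_smul,
      Derivation.liftKaehlerDifferential_comp_D]
  exact this

theorem ordDiff_one_eq_of_smul (φ : K →ₐ[k] F⸨X⸩) {P : Place k K}
    (hφ : LocRes.IsExpansionAt P.1 φ) {x z c : K}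
    (h : c • KaehlerDifferential.D k K z = KaehlerDifferential.D k K x)
    (hx : LocRes.vDiff φ 1 x ≠ 0) :
    LocRes.vDiff φ 1 z ≠ 0 ∧ c ≠ 0 ∧
      LocRes.ordDiff φ 1 x = P.ord c + LocRes.ordDiff φ 1 z := by
  have e := dExp_smul φ h
  simp only [LocRes.vDiff, map_one, one_mul] at hx ⊢
  rw [e, map_mul, mul_ne_zero_iff] at hx
  have hc : c ≠ 0 := fun h0 => hx.1 (by rw [h0, map_zero, map_zero])
  refine ⟨hx.2, hc, ?_⟩
  simp only [LocRes.ordDiff, LocRes.vDiff, map_one, one_mul]
  rw [e, map_mul, hφ.1 c, WithZero.log_mul ((Valuation.ne_zero_iff _).2 hc) hx.2]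
  simp only [Place.ord]
  ring

/-- A local parameter has differential of order zero. -/
theorem ordDiff_uniformizer {P : Place k K} {φ : K →ₐ[k] F⸨X⸩}
    (hφ : LocRes.IsExpansionAt P.1 φ) {t : K} (ht : P.1 t = exp (-1 : ℤ)) :
    LocRes.ordDiff φ 1 t = 0 := by
  have hle : Valued.v (φ t) ≤ exp (-1 : ℤ) := ((hφ.1 t).trans ht).le
  have h1 : Valued.v (LocRes.D F (φ t)) = exp (0 : ℤ) := by
    refine le_antisymm ?_ (not_lt.1 fun hlt => ?_)
    · rw [show (0 : ℤ) = -0 by norm_num]
      refine (LaurentSeries.valuation_le_iff_coeff_lt_eq_zero F).2 fun i hi => ?_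
      rw [LocRes.D_coeff, Residue.coeff_eq_zero_of_val hle (by omega), smul_zero]
    · have h2 : Valued.v (LocRes.D F (φ t)) ≤ exp (-(1 : ℤ)) := by
        revert hlt
        generalize Valued.v (LocRes.D F (φ t)) = w
        intro hlt
        cases w with
        | zero => exact zero_le
        | coe a =>
          rw [← WithZero.exp_log (x := (a : ℤᵐ⁰)) WithZero.coe_ne_zero] at hlt ⊢
          rw [WithZero.exp_lt_exp] at hlt
          rw [WithZero.exp_le_exp]
          omega
      have := (LaurentSeries.valuation_le_iff_coeff_lt_eq_zero F).1 h2 0 (by omega)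
      rw [Residue.D_coeff_zero] at this
      exact Residue.coeff_one_ne_zero hφ ht this
  simp only [LocRes.ordDiff, LocRes.vDiff, map_one, one_mul]
  rw [h1]
  simp

end

section

variable {k K K' F F' : Type*} [Field k] [Field K] [Field K'] [Algebra k K] [Algebra K K']
  [Algebra k K'] [IsScalarTower k K K'] [Field F] [Algebra k F] [Field F'] [Algebra k F']

theorem map_smul_D {x z c : K}
    (h : c • KaehlerDifferential.D k K z = KaehlerDifferential.D k K x) :
    algebraMap K K' c • KaehlerDifferential.D k K' (algebraMap K K' z) =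
      KaehlerDifferential.D k K' (algebraMap K K' x) := by
  rw [← KaehlerDifferential.map_D k k K K', ← KaehlerDifferential.map_D k k K K', ← h, map_smul,
    algebraMap_smul]

/-- The different exponent read on a local parameter below. -/
theorem diffExp_eq (hF : IsFF k K) (hg : IsGeometric k K) {P : Place k K} {Q : Place k K'}
    {e : ℕ} (he : IsOverWith Q P e)
    {φ : K →ₐ[k] F⸨X⸩} (hφ : LocRes.IsExpansionAt P.1 φ)
    {ψ : K' →ₐ[k] F'⸨X⸩} (hψ : LocRes.IsExpansionAt Q.1 ψ)
    {x : K} (hx : LocRes.vDiff φ 1 x ≠ 0) (hx' : LocRes.vDiff ψ 1 (algebraMap K K' x) ≠ 0)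
    {t : K} (ht : P.1 t = exp (-1 : ℤ)) :
    LocRes.vDiff ψ 1 (algebraMap K K' t) ≠ 0 ∧
      LocRes.diffExp φ ψ e x = LocRes.ordDiff ψ 1 (algebraMap K K' t) := by
  obtain ⟨x₁, hx₁⟩ := Residue.exists_smul_D_eq hF hg
  obtain ⟨a, ha⟩ := hx₁ (KaehlerDifferential.D k K t)
  have ha0 : a ≠ 0 := fun h0 => by
    have h1 := dExp_smul φ ha
    rw [h0, map_zero, zero_mul] at h1
    refine Residue.coeff_one_ne_zero hφ ht ?_
    rw [← Residue.D_coeff_zero, h1, HahnSeries.coeff_zero]
  obtain ⟨b, hb⟩ := hx₁ (KaehlerDifferential.D k K x)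
  have hc : (b / a) • KaehlerDifferential.D k K t = KaehlerDifferential.D k K x := by
    rw [← ha, smul_smul, div_mul_cancel₀ _ ha0, hb]
  obtain ⟨-, hc0, h1⟩ := ordDiff_one_eq_of_smul φ hφ hc hx
  obtain ⟨hne, -, h2⟩ := ordDiff_one_eq_of_smul ψ hψ (map_smul_D (K' := K') hc) hx'
  refine ⟨hne, ?_⟩
  rw [LocRes.diffExp, h2, h1, ordDiff_uniformizer hφ ht, overWith_ord he]
  ring

omit [IsScalarTower k K K'] in
/-- Tame and wild ramification. -/
theorem ordDiff_pullback {P : Place k K} {Q : Place k K'} {e : ℕ} (he : IsOverWith Q P e)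
    {ψ : K' →ₐ[k] F'⸨X⸩} (hψ : LocRes.IsExpansionAt Q.1 ψ)
    {t : K} (ht : P.1 t = exp (-1 : ℤ)) (hne : LocRes.vDiff ψ 1 (algebraMap K K' t) ≠ 0) :
    ((e : F') ≠ 0 → LocRes.ordDiff ψ 1 (algebraMap K K' t) = (e : ℤ) - 1) ∧
      ((e : F') = 0 → (e : ℤ) ≤ LocRes.ordDiff ψ 1 (algebraMap K K' t)) := by
  have hv : Valued.v (ψ (algebraMap K K' t)) = exp (-(e : ℤ)) := by
    rw [hψ.1, he, ht, ← WithZero.exp_nsmul]; congr 1; simp
  have hz : ∀ i : ℤ, i < e → (ψ (algebraMap K K' t)).coeff i = 0 := fun i hi =>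
    Residue.coeff_eq_zero_of_val hv.le (by omega)
  have hle : ∀ n : ℤ, n ≤ (e : ℤ) - 1 →
      Valued.v (LocRes.D F' (ψ (algebraMap K K' t))) ≤ exp (-n) := fun n hn => by
    refine (LaurentSeries.valuation_le_iff_coeff_lt_eq_zero F').2 fun i hi => ?_
    rw [LocRes.D_coeff, hz _ (by omega), smul_zero]
  simp only [LocRes.vDiff, map_one, one_mul] at hne
  have key : ∀ n : ℤ, Valued.v (LocRes.D F' (ψ (algebraMap K K' t))) ≤ exp (-n) →
      n ≤ LocRes.ordDiff ψ 1 (algebraMap K K' t) := fun n hn => by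
    simp only [LocRes.ordDiff, LocRes.vDiff, map_one, one_mul]
    rw [← WithZero.exp_log hne, WithZero.exp_le_exp] at hn
    omega
  constructor
  · intro he0
    refine le_antisymm (not_lt.1 fun hlt => ?_) (key _ (hle _ le_rfl))
    have h2 : Valued.v (LocRes.D F' (ψ (algebraMap K K' t))) ≤ exp (-(e : ℤ)) := by
      simp only [LocRes.ordDiff, LocRes.vDiff, map_one, one_mul] at hlt
      rw [← WithZero.exp_log hne, WithZero.exp_le_exp]
      omega
    have h3 := (LaurentSeries.valuation_le_iff_coeff_lt_eq_zero F').1 h2 ((e : ℤ) - 1) (by omega)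
    rw [LocRes.D_coeff, sub_add_cancel, zsmul_eq_mul, mul_eq_zero] at h3
    rcases h3 with h3 | h3
    · exact he0 (by exact_mod_cast h3)
    · have h4 : Valued.v (ψ (algebraMap K K' t)) ≤ exp (-((e : ℤ) + 1)) :=
        (LaurentSeries.valuation_le_iff_coeff_lt_eq_zero F').2 fun i hi => by
          rcases lt_or_eq_of_le (show i ≤ e by omega) with hl | rfl
          exacts [hz i hl, h3]
      rw [hv, WithZero.exp_le_exp] at h4
      omega
  · intro he0
    refine key _ ((LaurentSeries.valuation_le_iff_coeff_lt_eq_zero F').2 fun i hi => ?_)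
    rw [LocRes.D_coeff]
    rcases lt_or_eq_of_le (show i + 1 ≤ (e : ℤ) by omega) with hl | hl
    · rw [hz _ hl, smul_zero]
    · rw [hl, zsmul_eq_mul, Int.cast_natCast, he0, zero_mul]

omit [IsScalarTower k K K'] in
theorem natCast_eq_zero_iff (k K F' : Type*) [Field k] [Field K] [Algebra k K] [Field F']
    [Algebra k F'] (e : ℕ) : ((e : F') = 0) ↔ ringChar K ∣ e := by
  rw [← ringChar.spec K e, ← map_natCast (algebraMap k F'), ← map_natCast (algebraMap k K),
    map_eq_zero, map_eq_zero]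

end

end Groth.Funfld2.Different
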