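import Groth.Agent.Funfld2.Different.Total
import Mathlib.RingTheory.Derivation.MapCoeffs
import Mathlib.RingTheory.Polynomial.Basic
import Mathlib.Algebra.Squarefree.Basic
import Mathlib.FieldTheory.Separable
import Mathlib.Algebra.Polynomial.Identities

/-! Expansions: residue fields, derivatives of lifts of separable residues. -/

open FunFld Groth.FunFld1 Polynomial
open WithZero (exp)
open scoped LaurentSeries WithZero

namespace Groth.Funfld2.Different

variable {k K F : Type*} [Field k] [Field K] [Algebra k K] [Field F] [Algebra k F]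
  {Q : Place k K} {ψ : K →ₐ[k] F⸨X⸩}

/-- The constant coefficient of the expansion. -/
noncomputable def constHom (hψ : LocRes.IsExpansionAt Q.1 ψ) : Q.O →ₐ[k] F where
  toFun a := (ψ (a : K)).coeff 0
  map_one' := by simp
  map_zero' := by simp
  map_add' a b := by simp
  map_mul' a b := by
    have h : ∀ c : Q.O, ∀ i < (0 : ℤ), (ψ (c : K)).coeff i = 0 := fun c i hi =>
      Residue.coeff_eq_zero_of_val (N := 0) (by rw [hψ.1, WithZero.exp_zero]; exact c.2) (by omega)
    rw [MulMemClass.coe_mul, map_mul, Residue.coeff_mul_eq_sum (h a) (h b), sub_zero,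
      Finset.Icc_self, Finset.sum_singleton, sub_zero]
  commutes' c := by
    change (ψ (algebraMap k K c)).coeff 0 = _
    rw [LocRes.map_algebraMap]
    exact HahnSeries.coeff_single_same _ _

theorem constHom_eq_zero_iff (hψ : LocRes.IsExpansionAt Q.1 ψ) (a : Q.O) :
    constHom hψ a = 0 ↔ Q.1 (a : K) < 1 := by
  change (ψ (a : K)).coeff 0 = 0 ↔ _
  constructor
  · intro h
    rw [Groth.FunFld1.lt_one_iff_le_exp_neg_one, ← hψ.1]
    refine (LaurentSeries.valuation_le_iff_coeff_lt_eq_zero F).2 fun i hi => ?_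
    rcases lt_or_eq_of_le (show i ≤ 0 by omega) with hl | rfl
    · exact Residue.coeff_eq_zero_of_val (N := 0)
        (by rw [hψ.1, WithZero.exp_zero]; exact a.2) (by omega)
    · exact h
  · intro h
    exact (LaurentSeries.valuation_le_iff_coeff_lt_eq_zero F).1
      ((hψ.1 _).trans_le (Groth.FunFld1.lt_one_iff_le_exp_neg_one.1 h)) 0 (by omega)

theorem constHom_surjective (hψ : LocRes.IsExpansionAt Q.1 ψ) :
    Function.Surjective (constHom hψ) := fun a => by
  obtain ⟨f, hf, hfa⟩ := hψ.2.1 a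
  exact ⟨⟨f, hf⟩, hfa⟩

/-- The residue field of `Q` is the coefficient field of its expansions. -/
theorem isSeparable_residueField (hψ : LocRes.IsExpansionAt Q.1 ψ) [Algebra.IsSeparable k F] :
    Algebra.IsSeparable k (IsLocalRing.ResidueField Q.O) := by
  let ρ : Q.O →+* IsLocalRing.ResidueField Q.O := IsLocalRing.residue Q.O
  have hker : RingHom.ker ρ = RingHom.ker (constHom hψ).toRingHom := by
    ext a
    rw [RingHom.mem_ker, RingHom.mem_ker, residue_eq_zero_iff]
    exact (constHom_eq_zero_iff hψ a).symm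
  let e : IsLocalRing.ResidueField Q.O ≃+* F :=
    (RingHom.quotientKerEquivOfSurjective IsLocalRing.residue_surjective).symm.trans
      ((Ideal.quotEquivOfEq hker).trans
        (RingHom.quotientKerEquivOfSurjective (f := (constHom hψ).toRingHom)
          (constHom_surjective hψ)))
  have he : ∀ a, e (ρ a) = constHom hψ a := fun a => by
    have : (RingHom.quotientKerEquivOfSurjective (f := ρ) IsLocalRing.residue_surjective).symm (ρ a) =
        Ideal.Quotient.mk _ a := by
      rw [RingEquiv.symm_apply_eq]; rfl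
    simp only [e, RingEquiv.trans_apply]
    rw [this]
    rfl
  exact Algebra.IsSeparable.of_equiv_equiv (RingEquiv.refl k) e.symm (RingHom.ext fun c => by
    rw [RingHom.comp_apply, RingHom.comp_apply]
    change algebraMap k (IsLocalRing.ResidueField Q.O) c = e.symm (algebraMap k F c)
    rw [RingEquiv.eq_symm_apply]
    exact (he (algebraMap k Q.O c)).trans ((constHom hψ).commutes c))

theorem val_D_le {f : F⸨X⸩} {n : ℕ} (hf : Valued.v f ≤ exp (-(n : ℤ))) :
    Valued.v (LocRes.D F f) ≤ exp (1 - (n : ℤ)) := by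
  rw [← neg_sub]
  refine (LaurentSeries.valuation_le_iff_coeff_lt_eq_zero F).2 fun i hi => ?_
  rw [LocRes.D_coeff, Residue.coeff_eq_zero_of_val hf (by omega), smul_zero]

theorem val_eval_le_one (ρ : k[X]) {z : K} (hz : Q.1 z ≤ 1) : Q.1 (aeval z ρ) ≤ 1 := by
  let ι : Q.O →ₐ[k] K := { Q.O.subtype with commutes' := fun _ => rfl }
  rw [show aeval z ρ = ι (aeval (⟨z, hz⟩ : Q.O) ρ) from aeval_algHom_apply ι (⟨z, hz⟩ : Q.O) ρ]
  exact (aeval (⟨z, hz⟩ : Q.O) ρ).2

/-- A separable residue lifts inside any subfield containing it, with arbitrarily small derivative. -/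
theorem exists_lift (hψ : LocRes.IsExpansionAt Q.1 ψ) [Algebra.IsSeparable k F]
    (L : IntermediateField k K) {y : K} (hyL : y ∈ L) (hy : Q.1 y ≤ 1) (N : ℕ) :
    ∃ z ∈ L, Q.1 z ≤ 1 ∧ Q.1 (z - y) < 1 ∧ Valued.v (LocRes.D F (ψ z)) ≤ exp (-(N : ℤ)) := by
  classical
  set a := constHom hψ ⟨y, hy⟩
  set m := minpoly k a
  have hsep : m.Separable := Algebra.IsSeparable.isSeparable k a
  let ι : Q.O →ₐ[k] K := { Q.O.subtype with commutes' := fun _ => rfl }
  have hev : ∀ (p : k[X]) (z : Q.O), (aeval z p : Q.O).1 = aeval (z : K) p := fun p z =>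
    (aeval_algHom_apply ι z p).symm
  have hres : ∀ (p : k[X]) (z : Q.O), constHom hψ (aeval z p) = aeval (constHom hψ z) p := fun p z =>
    (aeval_algHom_apply _ z p).symm
  have hroot : ∀ z : Q.O, constHom hψ z = a →
      Q.1 (aeval (z : K) m) < 1 ∧ Q.1 (aeval (z : K) (derivative m)) = 1 := by
    intro z hz
    refine ⟨?_, le_antisymm (val_eval_le_one _ z.2) (not_lt.1 fun hlt => ?_)⟩
    · rw [← hev, ← constHom_eq_zero_iff hψ, hres, hz, minpoly.aeval]
    · rw [← hev, ← constHom_eq_zero_iff hψ, hres, hz] at hlt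
      exact hsep.aeval_derivative_ne_zero (minpoly.aeval k a) hlt
  have hmemL : ∀ (p : k[X]) {z : K}, z ∈ L → aeval z p ∈ L := fun p z hz =>
    (aeval_algHom_apply L.val (⟨z, hz⟩ : L) p).symm ▸ (aeval (⟨z, hz⟩ : L) p).2
  have key : ∀ n : ℕ, ∃ z : Q.O, (z : K) ∈ L ∧ constHom hψ z = a ∧
      Q.1 (aeval (z : K) m) ≤ exp (-((n : ℤ) + 1)) := by
    intro n
    induction n with
    | zero =>
      refine ⟨⟨y, hy⟩, hyL, rfl, ?_⟩
      simpa using Groth.FunFld1.lt_one_iff_le_exp_neg_one.1 (hroot ⟨y, hy⟩ rfl).1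
    | succ n ih =>
      obtain ⟨z, hzL, hza, hzv⟩ := ih
      have hd := (hroot z hza).2
      set δ : K := -(aeval (z : K) m / aeval (z : K) (derivative m)) with hδ
      have hδv : Q.1 δ ≤ exp (-((n : ℤ) + 1)) := by
        rw [hδ, Valuation.map_neg, map_div₀, hd, div_one]; exact hzv
      have hδ1 : Q.1 δ < 1 := hδv.trans_lt (by rw [← WithZero.exp_zero, WithZero.exp_lt_exp]; omega)
      let δO : Q.O := ⟨δ, hδ1.le⟩
      obtain ⟨g, hg⟩ := binomExpansion (m.map (algebraMap k Q.O)) z δO
      rw [derivative_map] at hg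
      simp only [eval_map_algebraMap] at hg
      have hg' := congrArg Subtype.val hg
      simp only [AddMemClass.coe_add, MulMemClass.coe_mul, SubmonoidClass.coe_pow, hev] at hg'
      refine ⟨z + δO, ?_, ?_, ?_⟩
      · exact add_mem hzL (neg_mem (div_mem (hmemL _ hzL) (hmemL _ hzL)))
      · rw [map_add, hza, (constHom_eq_zero_iff hψ δO).2 hδ1, add_zero]
      · have h0 : aeval (z : K) m + aeval (z : K) (derivative m) * δ = 0 := by
          have : aeval (z : K) (derivative m) ≠ 0 := fun h => by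
            rw [h, map_zero] at hd; exact zero_ne_one hd
          rw [hδ, mul_neg, mul_div_cancel₀ _ this, add_neg_cancel]
        change Q.1 (aeval ((z : K) + δ) m) ≤ _
        rw [hg', h0, zero_add, map_mul, map_pow]
        refine (mul_le_of_le_one_left' g.2).trans ((pow_le_pow_left₀ zero_le hδv 2).trans ?_)
        rw [← WithZero.exp_nsmul, WithZero.exp_le_exp]
        simp only [nsmul_eq_mul]
        push_cast
        omega
  obtain ⟨z, hzL, hza, hzv⟩ := key N
  refine ⟨z, hzL, z.2, ?_, ?_⟩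
  · change Q.1 ((z - ⟨y, hy⟩ : Q.O) : K) < 1
    rw [← constHom_eq_zero_iff hψ, map_sub, hza, sub_self]
  · let _i := ψ.toRingHom.toAlgebra
    have _t : IsScalarTower k K F⸨X⸩ := LocRes.isScalarTower_exp ψ
    have h1 : LocRes.D F (ψ (aeval (z : K) m)) =
        ψ (aeval (z : K) (derivative m)) * LocRes.D F (ψ (z : K)) :=
      (LocRes.dExp ψ).map_aeval m (z : K)
    have h2 := val_D_le (F := F) (n := N + 1)
      (((hψ.1 _).le.trans hzv).trans_eq (by push_cast; rfl))
    rw [h1, map_mul, hψ.1, (hroot z hza).2, one_mul] at h2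
    refine h2.trans_eq ?_
    congr 1; push_cast; ring

end Groth.Funfld2.Different
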