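import Groth.Agent.Funfld2.Different.Partial
import Mathlib.RingTheory.DedekindDomain.Different

/-! The trace dual of the semi-local ring above a place. -/

open FunFld Groth.FunFld1 Polynomial
open WithZero (exp)
open scoped LaurentSeries WithZero Pointwise

set_option linter.unusedSectionVars false

namespace Groth.Funfld2.Different

variable {k K K' : Type*} [Field k] [Field K] [Field K'] [Algebra k K] [Algebra K K']
  [Algebra k K'] [IsScalarTower k K K'] [FiniteDimensional K K'] [Algebra.IsSeparable K K']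
  {P : Place k K} [Algebra P.O K'] [IsScalarTower P.O K K']

variable (P) in
/-- `y` is in the dual of the integral closure. -/
def InDual (y : K') : Prop :=
  ∀ z : K', IsIntegral P.O z → P.1 (Algebra.trace K K' (y * z)) ≤ 1

omit [IsScalarTower k K K'] in
/-- The dual of `O_P[x]`. -/
theorem dual_adjoin {x : K'} (hx : IntermediateField.adjoin K ({x} : Set K') = ⊤)
    (hi : IsIntegral P.O x) (y : K') :
    aeval x (derivative (minpoly K x)) * y ∈ Algebra.adjoin P.O ({x} : Set K') ↔
      ∀ z ∈ Algebra.adjoin P.O ({x} : Set K'), P.1 (Algebra.trace K K' (y * z)) ≤ 1 := by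
  have hx' : Algebra.adjoin K ({x} : Set K') = ⊤ := by
    rw [← IntermediateField.adjoin_simple_toSubalgebra_of_isAlgebraic
      (Algebra.IsAlgebraic.isAlgebraic x), hx, IntermediateField.top_toSubalgebra]
  have h := SetLike.ext_iff.1 (traceForm_dualSubmodule_adjoin P.O K hx' hi) y
  have hne : aeval x (derivative (minpoly K x)) ≠ 0 :=
    (Algebra.IsSeparable.isSeparable K x).aeval_derivative_ne_zero (minpoly.aeval _ _)
  rw [LinearMap.BilinForm.mem_dualSubmodule,
    Submodule.mem_smul_iff_inv_mul_mem (inv_ne_zero hne), inv_inv] at h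
  simp only [Subalgebra.mem_toSubmodule] at h
  rw [← h]
  refine forall₂_congr fun z _ => ?_
  rw [Algebra.traceForm_apply, Submodule.one_eq_range, LinearMap.mem_range]
  exact ⟨fun ⟨c, hc⟩ => hc ▸ c.2, fun hle => ⟨⟨_, hle⟩, rfl⟩⟩

omit [IsScalarTower k K K'] [Algebra.IsSeparable K K'] in
theorem isIntegral_of_mem {x : K'} (hi : IsIntegral P.O x) {z : K'}
    (hz : z ∈ Algebra.adjoin P.O ({x} : Set K')) : IsIntegral P.O z :=
  Algebra.adjoin_le (Set.singleton_subset_iff.2 (show x ∈ integralClosure P.O K' from hi)) hz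

omit [IsScalarTower k K K'] in
/-- An element of the dual, times the derivative, lies in `O_P[x]`. -/
theorem InDual.mul_mem {x : K'} (hx : IntermediateField.adjoin K ({x} : Set K') = ⊤)
    (hi : IsIntegral P.O x) {y : K'} (hy : InDual P y) :
    aeval x (derivative (minpoly K x)) * y ∈ Algebra.adjoin P.O ({x} : Set K') :=
  (dual_adjoin hx hi y).2 fun z hz => hy z (isIntegral_of_mem hi hz)

omit [IsScalarTower k K K'] [Algebra.IsSeparable K K'] in
/-- Integral elements are in the dual. -/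
theorem inDual_of_integral {y : K'} (hy : IsIntegral P.O y) : InDual P y := fun z hz => by
  obtain ⟨c, hc⟩ := IsIntegrallyClosed.isIntegral_iff.1 (Algebra.isIntegral_trace (L := K) (hy.mul hz))
  exact hc ▸ c.2

omit [IsScalarTower k K K'] [Algebra.IsSeparable K K'] in
theorem InDual.mul {y z : K'} (hy : InDual P y) (hz : IsIntegral P.O z) : InDual P (y * z) :=
  fun w hw => by rw [mul_assoc]; exact hy _ (hz.mul hw)

section

variable {Q : Place k K'} {s : K'}

omit [Algebra.IsSeparable K K'] in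
theorem val_le_one (hF : IsFF k K) (hQP : IsOver Q P) {z : K'} (hz : IsIntegral P.O z) :
    Q.1 z ≤ 1 :=
  (hF.mem_integralClosure_iff P z).1 hz Q hQP

omit [Algebra.IsSeparable K K'] in
/-- Elements of `O_P[s]` vanishing to order `n` at `Q` are divisible by `sⁿ`. -/
theorem dvd_pow (hF : IsFF k K) (hQP : IsOver Q P) (hi : IsIntegral P.O s)
    (hs : Q.1 s = exp (-1 : ℤ)) (h0 : P.1 ((minpoly K s).coeff 0) = exp (-1 : ℤ))
    (n : ℕ) {a : K'} (ha : a ∈ Algebra.adjoin P.O ({s} : Set K'))
    (hv : Q.1 a ≤ exp (-(n : ℤ))) :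
    ∃ b ∈ Algebra.adjoin P.O ({s} : Set K'), a = s ^ n * b := by
  induction n with
  | zero => exact ⟨a, ha, by simp⟩
  | succ n ih =>
    obtain ⟨b, hb, rfl⟩ := ih (hv.trans (by rw [WithZero.exp_le_exp]; omega))
    have hb1 : Q.1 b ≤ exp (-1 : ℤ) := by
      rw [map_mul, map_pow, hs, ← WithZero.exp_nsmul] at hv
      refine le_of_mul_le_mul_left (hv.trans_eq ?_) WithZero.exp_pos
      rw [← WithZero.exp_add]
      congr 1
      simp only [smul_neg, nsmul_eq_mul, mul_one]
      push_cast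
      ring
    suffices h : ∃ b' ∈ Algebra.adjoin P.O ({s} : Set K'), b = s * b' by
      obtain ⟨b', hb', rfl⟩ := h
      exact ⟨b', hb', by ring⟩
    obtain ⟨g, rfl⟩ := (Algebra.adjoin_singleton_eq_range_aeval P.O s).le hb
    have hsplit : aeval s g = s * aeval s g.divX + algebraMap P.O K' (g.coeff 0) := by
      have h : aeval s (X * g.divX + C (g.coeff 0)) = aeval s g := by rw [X_mul_divX_add]
      rw [← h, map_add, map_mul, aeval_X, aeval_C]
    rw [AlgHom.toRingHom_eq_coe, RingHom.coe_coe] at hb1 ⊢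
    have hg0 : Q.1 (algebraMap P.O K' (g.coeff 0)) < 1 := by
      rw [show algebraMap P.O K' (g.coeff 0) = aeval s g - s * aeval s g.divX by rw [hsplit]; ring]
      refine (Q.1.map_sub _ _).trans_lt (max_lt (hb1.trans_lt ?_) ?_)
      · rw [← WithZero.exp_zero, WithZero.exp_lt_exp]; norm_num
      · rw [map_mul, hs]
        refine (mul_le_of_le_one_right'
          (val_le_one hF hQP (isIntegral_of_mem hi (aeval_mem_adjoin_singleton _ _)))).trans_lt ?_
        rw [← WithZero.exp_zero, WithZero.exp_lt_exp]; norm_num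
    rw [algebraMap_O_apply, over_lt_one_iff hQP] at hg0
    set c := (minpoly K s).coeff 0 with hc
    have hc0 : c ≠ 0 := fun h => by rw [h, map_zero] at h0; exact WithZero.exp_ne_zero h0.symm
    have hu : P.1 ((g.coeff 0 : K) / c) ≤ 1 := by
      rw [map_div₀, h0]
      exact (div_le_one₀ WithZero.exp_pos).2 (lt_one_iff_le_exp_neg_one.1 hg0)
    let u : P.O := ⟨_, hu⟩
    have hm := minpoly.aeval P.O s
    rw [← X_mul_divX_add (minpoly P.O s)] at hm
    simp only [map_add, map_mul, aeval_X, aeval_C] at hm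
    have hcm : c = ((minpoly P.O s).coeff 0 : K) := by
      rw [hc, minpoly.isIntegrallyClosed_eq_field_fractions' K hi, coeff_map]
      rfl
    have hg : g.coeff 0 = (minpoly P.O s).coeff 0 * u := Subtype.ext (by
      change (g.coeff 0 : K) = ((minpoly P.O s).coeff 0 : K) * ((g.coeff 0 : K) / c)
      rw [← hcm]; field_simp)
    refine ⟨aeval s g.divX - aeval s (minpoly P.O s).divX * algebraMap P.O K' u,
      sub_mem (aeval_mem_adjoin_singleton _ _)
        (mul_mem (aeval_mem_adjoin_singleton _ _) (Subalgebra.algebraMap_mem _ _)), ?_⟩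
    rw [hsplit, hg, map_mul]
    linear_combination (algebraMap P.O K' u) * hm

end

variable {F F' : Type*} [Field F] [Algebra k F] [Field F'] [Algebra k F'] {Q : Place k K'}

omit [Algebra.IsSeparable K K'] [Algebra P.O K'] [IsScalarTower P.O K K'] in
theorem exists_parameter (hF : IsFF k K) (P : Place k K) (Q : Place k K') :
    ∃ s : K', Q.1 s = exp (-1 : ℤ) ∧
      ∀ Q' : Place k K', IsOver Q' P → Q' ≠ Q → Q'.1 s = 1 := by
  classical
  obtain ⟨s, hs⟩ := exists_val_eq (insert Q (hF.above P)) fun Q' => if Q' = Q then -1 else 0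
  refine ⟨s, by simpa using hs Q (Finset.mem_insert_self _ _), fun Q' hQ' hne => ?_⟩
  simpa [hne] using hs Q' (Finset.mem_insert_of_mem (hF.mem_above.2 hQ'))

variable (hF : IsFF k K) (hg : IsGeometric k K) {e : ℕ} (he : IsOverWith Q P e)
  [P.1.HasExtension Q.1]
  (hf : Function.Surjective
    (algebraMap (IsLocalRing.ResidueField P.O) (IsLocalRing.ResidueField Q.O)))
  {φ : K →ₐ[k] F⸨X⸩} (hφ : LocRes.IsExpansionAt P.1 φ)
  {ψ : K' →ₐ[k] F'⸨X⸩} (hψ : LocRes.IsExpansionAt Q.1 ψ)
  {x : K} (hx : LocRes.vDiff φ 1 x ≠ 0) (hx' : LocRes.vDiff ψ 1 (algebraMap K K' x) ≠ 0)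

include hF hg he hf hφ hψ hx hx'

/-- The dual has order exactly `-d(Q|P)` at `Q`. -/
theorem dual_min :
    (∀ y : K', InDual P y → Q.1 y ≤ exp (LocRes.diffExp φ ψ e x)) ∧
      ∃ y : K', InDual P y ∧ Q.1 y = exp (LocRes.diffExp φ ψ e x) := by
  have hQP := overWith_isOver he
  obtain ⟨s, hs, hs'⟩ := exists_parameter hF P Q
  obtain ⟨htop, hd⟩ := generator_diffExp hF hg he hf hφ hψ hx hx' hs hs'
  obtain ⟨-, h0, -⟩ := generator_unit hF hQP (deg_eq_of_surjective hf) hs hs'
  have hi : IsIntegral P.O s := (hF.mem_integralClosure_iff P s).2 fun Q' hQ' => by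
    rcases eq_or_ne Q' Q with rfl | hne
    · rw [hs, ← WithZero.exp_zero, WithZero.exp_le_exp]; norm_num
    · rw [hs' Q' hQ' hne]
  set δ := aeval s (derivative (minpoly K s)) with hδ
  have hδ0 : δ ≠ 0 :=
    (Algebra.IsSeparable.isSeparable K s).aeval_derivative_ne_zero (minpoly.aeval _ _)
  have hδS : δ ∈ Algebra.adjoin P.O ({s} : Set K') := by
    rw [hδ, minpoly.isIntegrallyClosed_eq_field_fractions' K hi, derivative_map,
      aeval_map_algebraMap]
    exact aeval_mem_adjoin_singleton _ _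
  have hvδ : Q.1 δ = exp (-LocRes.diffExp φ ψ e x) := by rw [val_eq_exp_neg_ord Q hδ0, hd]
  have hd0 : 0 ≤ LocRes.diffExp φ ψ e x := by
    have := val_le_one hF hQP (isIntegral_of_mem hi hδS)
    rw [hvδ, ← WithZero.exp_zero, WithZero.exp_le_exp] at this
    omega
  obtain ⟨n, hn⟩ := Int.eq_ofNat_of_zero_le hd0
  rw [hn] at hvδ ⊢
  refine ⟨fun y hy => ?_, ?_⟩
  · have h1 := val_le_one hF hQP (isIntegral_of_mem hi (hy.mul_mem htop hi))
    rw [map_mul, hvδ, WithZero.exp_neg, inv_mul_le_iff₀ WithZero.exp_pos, mul_one] at h1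
    exact h1
  · have hs0 : s ≠ 0 := fun h => by rw [h, map_zero] at hs; exact WithZero.exp_ne_zero hs.symm
    obtain ⟨v, hv, hvv⟩ := dvd_pow hF hQP hi hs h0 n hδS hvδ.le
    refine ⟨(s ^ n)⁻¹, fun z hz => ?_, ?_⟩
    · have h1 : δ * z ∈ Algebra.adjoin P.O ({s} : Set K') :=
        (inDual_of_integral hz).mul_mem htop hi
      obtain ⟨w, hw, hww⟩ := dvd_pow hF hQP hi hs h0 n h1 (by
        rw [map_mul, hvδ]
        exact mul_le_of_le_one_right' (val_le_one hF hQP hz))
      have h2 : δ * ((s ^ n)⁻¹ * z) = w := by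
        rw [← mul_assoc, mul_comm δ, mul_assoc, hww, inv_mul_cancel_left₀ (pow_ne_zero _ hs0)]
      simpa using (dual_adjoin htop hi ((s ^ n)⁻¹ * z)).1 (h2 ▸ hw) 1 (one_mem _)
    · rw [map_inv₀, map_pow, hs, ← WithZero.exp_nsmul, ← WithZero.exp_neg]
      simp

/-- A generator gives `d(Q|P) ≤ v_Q(g'(y))`, with equality only if `O_P[y]` is maximal at `Q`. -/
theorem derivative_bound {y : K'} (hy : IntermediateField.adjoin K ({y} : Set K') = ⊤)
    (hyi : IsIntegral P.O y) :
    LocRes.diffExp φ ψ e x ≤ Q.ord (aeval y (derivative (minpoly K y))) ∧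
    (Q.ord (aeval y (derivative (minpoly K y))) = LocRes.diffExp φ ψ e x →
      ∀ z : K', Q.1 z ≤ 1 → ∃ a ∈ Algebra.adjoin P.O ({y} : Set K'),
        ∃ b ∈ Algebra.adjoin P.O ({y} : Set K'), Q.1 b = 1 ∧ z * b = a) := by
  classical
  have hQP := overWith_isOver he
  obtain ⟨-, w, hw, hwv⟩ := dual_min hF hg he hf hφ hψ hx hx'
  set δ := aeval y (derivative (minpoly K y)) with hδ
  have hδ0 : δ ≠ 0 :=
    (Algebra.IsSeparable.isSeparable K y).aeval_derivative_ne_zero (minpoly.aeval _ _)
  have ha := hw.mul_mem hy hyi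
  have hva : Q.1 (δ * w) = exp (LocRes.diffExp φ ψ e x - Q.ord δ) := by
    rw [map_mul, hwv, val_eq_exp_neg_ord Q hδ0, ← WithZero.exp_add]
    congr 1; ring
  refine ⟨?_, fun heq z hz => ?_⟩
  · have h1 := val_le_one hF hQP (isIntegral_of_mem hyi ha)
    rw [hva, ← WithZero.exp_zero, WithZero.exp_le_exp] at h1
    omega
  · rw [heq, sub_self, WithZero.exp_zero] at hva
    obtain ⟨z₂, hz₂⟩ := exists_val_eq (insert Q (hF.above P))
      fun Q' => if Q' = Q then 0 else min 0 (Q'.ord z)
    have hz2 : Q.1 z₂ = 1 := by simpa using hz₂ Q (Finset.mem_insert_self _ _)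
    have hb : ∀ Q' : Place k K', IsOver Q' P → Q'.1 z₂ ≤ 1 ∧ Q'.1 (z * z₂) ≤ 1 := fun Q' hQ' => by
      rcases eq_or_ne Q' Q with rfl | hne
      · exact ⟨hz2.le, by rw [map_mul, hz2, mul_one]; exact hz⟩
      · have := hz₂ Q' (Finset.mem_insert_of_mem (hF.mem_above.2 hQ'))
        rw [if_neg hne] at this
        constructor
        · rw [this, ← WithZero.exp_zero, WithZero.exp_le_exp]; exact min_le_left _ _
        · rcases eq_or_ne z 0 with rfl | hz0
          · simp
          rw [map_mul, this, val_eq_exp_neg_ord Q' hz0, ← WithZero.exp_add, ← WithZero.exp_zero,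
            WithZero.exp_le_exp]
          omega
    have key : ∀ r : K', IsIntegral P.O r → r * (δ * w) ∈ Algebra.adjoin P.O ({y} : Set K') :=
      fun r hr => by
        rw [← mul_assoc, mul_comm r, mul_assoc, mul_comm r]
        exact (hw.mul hr).mul_mem hy hyi
    refine ⟨_, key _ ((hF.mem_integralClosure_iff P _).2 fun Q' h => (hb Q' h).2),
      _, key _ ((hF.mem_integralClosure_iff P _).2 fun Q' h => (hb Q' h).1), ?_, ?_⟩
    · rw [map_mul, hz2, hva, one_mul]
    · ring

end Groth.Funfld2.Different
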