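import Groth.Agent.Funfld2.Different.Constants
import Groth.Agent.FunFld1.RamGroups
import Mathlib.FieldTheory.Galois.Basic
import Mathlib.RingTheory.Etale.Field
import Mathlib.RingTheory.Smooth.Kaehler

/-! Hilbert's formula for the different exponent. -/

open FunFld Groth.FunFld1 Polynomial
open WithZero (exp)
open scoped LaurentSeries WithZero TensorProduct

set_option linter.unusedSectionVars false

namespace Groth.Funfld2.Different

variable {k K K' : Type*} [Field k] [Field K] [Field K'] [Algebra k K] [Algebra K K']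
  [Algebra k K'] [IsScalarTower k K K']

/-- Differentials of a separable extension are spanned from below. -/
theorem exists_smul_D_eq_top [FiniteDimensional K K'] [Algebra.IsSeparable K K'] (hF : IsFF k K)
    (hg : IsGeometric k K) :
    ∃ x₁ : K', ∀ w : Ω[K'⁄k], ∃ c : K', c • KaehlerDifferential.D k K' x₁ = w := by
  obtain ⟨x₁, hx₁⟩ := Residue.exists_smul_D_eq hF hg
  refine ⟨algebraMap K K' x₁, fun w => ?_⟩
  have : Algebra.FormallyUnramified K K' := Algebra.FormallyUnramified.of_isSeparable K K'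
  obtain ⟨m, rfl⟩ : ∃ m, KaehlerDifferential.mapBaseChange k K K' m = w :=
    (KaehlerDifferential.exact_mapBaseChange_map k K K' w).1 (Subsingleton.elim _ _)
  induction m using TensorProduct.induction_on with
  | zero => exact ⟨0, by simp⟩
  | tmul a η =>
    obtain ⟨c, rfl⟩ := hx₁ η
    refine ⟨a * algebraMap K K' c, ?_⟩
    rw [KaehlerDifferential.mapBaseChange_tmul, map_smul, KaehlerDifferential.map_D,
      mul_smul, algebraMap_smul]
  | add a b ha hb =>
    obtain ⟨c, hc⟩ := ha
    obtain ⟨d, hd⟩ := hb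
    exact ⟨c + d, by rw [add_smul, hc, hd, map_add]⟩

variable [FiniteDimensional K K'] [IsGalois K K']

variable (K) in
/-- The inertia field. -/
noncomputable abbrev inertiaField (Q : Place k K') : IntermediateField K K' :=
  IntermediateField.fixedField (RamG K Q 1)

instance isScalarTower_inertiaField (Q : Place k K') : IsScalarTower k (inertiaField K Q) K' :=
  IsScalarTower.of_algebraMap_eq fun _ => rfl

theorem mem_RamG_of_fixed {Q : Place k K'} (σ : K' ≃ₐ[inertiaField K Q] K') :
    σ.restrictScalars K ∈ RamG K Q 1 := by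
  have : σ.restrictScalars K ∈ IntermediateField.fixingSubgroup (inertiaField K Q) :=
    (IntermediateField.mem_fixingSubgroup_iff _ _).2 fun z hz => σ.commutes ⟨z, hz⟩
  rwa [IntermediateField.fixingSubgroup_fixedField] at this

theorem finrank_inertiaField (hF : IsFF k K) {Q : Place k K'} {P : Place k K} (h : IsOver Q P)
    [Algebra.IsSeparable k (IsLocalRing.ResidueField Q.O)] :
    Module.finrank (inertiaField K Q) K' = ramIdx Q P := by
  rw [IntermediateField.finrank_fixedField_eq_card, natCard_RamG_one hF h]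

/-- Below `Q` in the inertia field: totally ramified above. -/
theorem exists_inertia_place (hF : IsFF k K) {Q : Place k K'} {P : Place k K} {e : ℕ}
    (he : IsOverWith Q P e) [Algebra.IsSeparable k (IsLocalRing.ResidueField Q.O)] :
    ∃ R : Place k (inertiaField K Q), IsOverWith Q R e ∧
      e = Module.finrank (inertiaField K Q) K' := by
  have hdim := finrank_inertiaField hF (overWith_isOver he)
  rw [ramIdx_eq he] at hdim
  have hFL : IsFF k (inertiaField K Q) := hF.ext
  obtain ⟨R, hR⟩ := hFL.exists_isOver (K' := K') Q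
  refine ⟨R, ?_, hdim.symm⟩
  have h1 := natCard_RamG_one hFL hR
  have htop : RamG (inertiaField K Q) Q 1 = ⊤ := by
    rw [eq_top_iff]
    intro σ _
    exact mem_RamG_iff.2 fun z hz => (mem_RamG_iff.1 (mem_RamG_of_fixed σ)) z hz
  rw [htop, Subgroup.card_top, IsGalois.card_aut_eq_finrank, hdim] at h1
  exact h1 ▸ isOverWith_ramIdx hR

variable {F' : Type*} [Field F'] [Algebra k F'] {Q : Place k K'} {ψ : K' →ₐ[k] F'⸨X⸩}

/-- Residues at `Q` come from the inertia field. -/
theorem exists_residue_inertiaField (hψ : LocRes.IsExpansionAt Q.1 ψ) [Algebra.IsSeparable k F']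
    {y : K'} (hy : Q.1 y ≤ 1) :
    ∃ z ∈ inertiaField K Q, Q.1 z ≤ 1 ∧ Q.1 (z - y) < 1 := by
  classical
  have : Fintype (RamG K Q 1) := Fintype.ofFinite _
  let g := constHom hψ
  let S : IntermediateField k F' :=
    { carrier := {a | ∃ z : Q.O, (z : K') ∈ inertiaField K Q ∧ g z = a}
      mul_mem' := by
        rintro _ _ ⟨a, ha, rfl⟩ ⟨b, hb, rfl⟩; exact ⟨a * b, mul_mem ha hb, map_mul g a b⟩
      one_mem' := ⟨1, one_mem _, map_one g⟩
      add_mem' := by
        rintro _ _ ⟨a, ha, rfl⟩ ⟨b, hb, rfl⟩; exact ⟨a + b, add_mem ha hb, map_add g a b⟩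
      zero_mem' := ⟨0, zero_mem _, map_zero g⟩
      algebraMap_mem' := fun c => ⟨algebraMap k Q.O c, by
        change algebraMap k K' c ∈ _
        rw [IsScalarTower.algebraMap_apply k K K']
        exact IntermediateField.algebraMap_mem _ _, g.commutes c⟩
      inv_mem' := by
        rintro _ ⟨a, ha, rfl⟩
        by_cases h0 : g a = 0
        · exact ⟨0, zero_mem _, by rw [map_zero, h0, inv_zero]⟩
        have h1 : Q.1 (a : K') = 1 :=
          le_antisymm a.2 (not_lt.1 fun h => h0 ((constHom_eq_zero_iff hψ a).2 h))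
        refine ⟨⟨(a : K')⁻¹, (map_inv₀ Q.1 _).trans_le (by rw [h1, inv_one])⟩, inv_mem ha, ?_⟩
        refine eq_inv_of_mul_eq_one_left ?_
        rw [← map_mul]
        refine (congrArg g ?_).trans (map_one g)
        exact Subtype.ext (inv_mul_cancel₀
          (fun h => by rw [h, map_zero] at h1; exact zero_ne_one h1)) }
  set a := g ⟨y, hy⟩
  suffices haS : a ∈ S by
    obtain ⟨z, hz, hza⟩ := haS
    refine ⟨z, hz, z.2, ?_⟩
    change Q.1 ((z - ⟨y, hy⟩ : Q.O) : K') < 1
    rw [← constHom_eq_zero_iff hψ, map_sub, hza, sub_self]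
  have hσv : ∀ σ : RamG K Q 1, Q.1 ((σ : K' ≃ₐ[K] K') y) ≤ 1 := fun σ => by
    rw [val_apply_of_comap σ.2.1]; exact hy
  let r : RamG K Q 1 → Q.O := fun σ => ⟨_, hσv σ⟩
  have hr : ∀ σ, g (r σ) = a := fun σ => by
    rw [← sub_eq_zero, ← map_sub, constHom_eq_zero_iff hψ]
    refine (mem_RamG_iff.1 σ.2 y hy).trans_lt ?_
    rw [← WithZero.exp_zero, WithZero.exp_lt_exp]; norm_num
  let p : Q.O[X] := ∏ σ, (X - C (r σ))
  have hp : p.map g.toRingHom = (X - C a) ^ Fintype.card (RamG K Q 1) := by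
    simp [p, Polynomial.map_prod, hr]
  have hpfix : ∀ (τ : K' ≃ₐ[K] K'), τ ∈ RamG K Q 1 →
      (p.map Q.O.subtype).map τ.toRingEquiv.toRingHom = p.map Q.O.subtype := by
    intro τ hτ
    simp only [p, Polynomial.map_prod, Polynomial.map_sub, Polynomial.map_X, Polynomial.map_C]
    refine Fintype.prod_equiv (Equiv.mulLeft ⟨τ, hτ⟩) _ _ fun σ => ?_
    simp only [r, Equiv.coe_mulLeft, Subgroup.coe_mul, AlgEquiv.mul_apply]
    rfl
  have hcoef : ∀ i, ((X - C a) ^ Fintype.card (RamG K Q 1)).coeff i ∈ S := fun i => by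
    rw [← hp, coeff_map]
    refine ⟨p.coeff i, ?_, rfl⟩
    rw [IntermediateField.mem_fixedField_iff]
    intro τ hτ
    have := congrArg (fun q => q.coeff i) (hpfix τ hτ)
    simpa [coeff_map] using this
  have hlift : (X - C a) ^ Fintype.card (RamG K Q 1) ∈ Polynomial.lifts (algebraMap S F') :=
    (lifts_iff_coeff_lifts _).2 fun i => ⟨⟨_, hcoef i⟩, rfl⟩
  obtain ⟨q, hq⟩ := (mem_lifts _).1 hlift
  have hroot : aeval a q = 0 := by
    rw [aeval_def, ← eval_map, hq]
    simp
  have hint : IsIntegral S a :=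
    (Algebra.IsSeparable.isIntegral k a).tower_top
  have hdvd := map_dvd (Polynomial.mapRingHom (algebraMap S F')) (minpoly.dvd S a hroot)
  simp only [Polynomial.coe_mapRingHom] at hdvd
  rw [hq, (Polynomial.Separable.map (f := algebraMap S F')
    (IsSeparable.tower_top S (Algebra.IsSeparable.isSeparable k a))).squarefree.dvd_pow_iff_dvd
    Fintype.card_ne_zero] at hdvd
  have hdeg := natDegree_le_of_dvd hdvd (X_sub_C_ne_zero a)
  rw [natDegree_map, natDegree_X_sub_C] at hdeg
  obtain ⟨b, hb⟩ := minpoly.mem_range_of_degree_eq_one S a (by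
    rw [degree_eq_natDegree (minpoly.ne_zero hint)]
    exact_mod_cast le_antisymm hdeg (minpoly.natDegree_pos hint))
  exact hb ▸ b.2

/-- Elements of the inertia field have expansions in the local parameter below. -/
theorem val_D_inertiaField (hF : IsFF k K) (hψ : LocRes.IsExpansionAt Q.1 ψ)
    [Algebra.IsSeparable k F'] {P : Place k K} {e : ℕ} (he : IsOverWith Q P e) {u : K}
    (hu : P.1 u = exp (-1 : ℤ)) (hne : Valued.v (LocRes.D F' (ψ (algebraMap K K' u))) ≠ 0)
    {c : K'} (hc : c ∈ inertiaField K Q) (hc1 : Q.1 c ≤ 1) :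
    Valued.v (LocRes.D F' (ψ c)) ≤ Valued.v (LocRes.D F' (ψ (algebraMap K K' u))) := by
  have := isSeparable_residueField hψ
  obtain ⟨R, hR, -⟩ := exists_inertia_place hF he
  set U := algebraMap K K' u
  set d := Valued.v (LocRes.D F' (ψ U))
  have hU : Q.1 U = exp (-(e : ℤ)) := by rw [he, hu, ← WithZero.exp_nsmul]; congr 1; simp
  have hU0 : U ≠ 0 := fun h => by rw [h, map_zero] at hU; exact WithZero.exp_ne_zero hU.symm
  have hUψ : Valued.v (ψ U) ≤ exp (-1 : ℤ) := by
    rw [hψ.1, hU, WithZero.exp_le_exp]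
    have := overWith_pos he
    omega
  have key : ∀ N : ℕ, ∀ c ∈ inertiaField K Q, Q.1 c ≤ 1 →
      Valued.v (LocRes.D F' (ψ c)) ≤ max d (exp (-(N : ℤ))) := by
    intro N
    induction N with
    | zero =>
      intro c _ hc1
      exact le_max_of_le_right ((val_D_le_one ((hψ.1 c).trans_le hc1)).trans_eq
        (by simp))
    | succ N ih =>
      intro c hc hc1
      obtain ⟨y, hy, hy1, hyc⟩ := exists_residue_inertiaField (K := K) hψ hc1
      obtain ⟨z, hz, hz1, hzy, hzD⟩ := exists_lift hψ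
        ((inertiaField K Q).restrictScalars k) (y := y) hy hy1 (N + 1)
      have hlt : Q.1 (c - z) < 1 := by
        rw [show c - z = -((z - y) + (y - c)) by ring, Valuation.map_neg]
        exact (Q.1.map_add _ _).trans_lt (max_lt hzy hyc)
      have hmem : c - z ∈ inertiaField K Q := sub_mem hc hz
      have hle : Q.1 (c - z) ≤ exp (-(e : ℤ)) := by
        have h2 : Q.1 (c - z) = R.1 (⟨c - z, hmem⟩ : inertiaField K Q) ^ e :=
          hR ⟨c - z, hmem⟩
        have h3 : R.1 (⟨c - z, hmem⟩ : inertiaField K Q) < 1 :=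
          (overWith_lt_one_iff hR _).1 hlt
        rw [h2]
        refine (pow_le_pow_left₀ zero_le (lt_one_iff_le_exp_neg_one.1 h3) e).trans_eq ?_
        rw [← WithZero.exp_nsmul]; congr 1; simp
      set w := (c - z) / U with hw
      have hwL : w ∈ inertiaField K Q := div_mem hmem (IntermediateField.algebraMap_mem _ _)
      have hw1 : Q.1 w ≤ 1 := by
        rw [hw, map_div₀, hU, div_le_one₀ WithZero.exp_pos]; exact hle
      have hcw : c = z + U * w := by rw [hw, mul_div_cancel₀ _ hU0]; ring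
      rw [hcw, map_add, map_mul, map_add, Derivation.leibniz]
      refine (Valued.v.map_add _ _).trans (max_le (le_max_of_le_right hzD)
        ((Valued.v.map_add _ _).trans (max_le ?_ ?_)))
      · rw [smul_eq_mul, map_mul]
        refine (mul_le_mul' hUψ (ih w hwL hw1)).trans ?_
        rcases max_cases d (exp (-(N : ℤ))) with ⟨h, -⟩ | ⟨h, -⟩ <;> rw [h]
        · refine le_max_of_le_left (mul_le_of_le_one_left' ?_)
          rw [← WithZero.exp_zero, WithZero.exp_le_exp]; norm_num
        · refine le_max_of_le_right ?_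
          rw [← WithZero.exp_add, WithZero.exp_le_exp]; push_cast; omega
      · rw [smul_eq_mul, map_mul, hψ.1]
        exact le_max_of_le_left (mul_le_of_le_one_left' hw1)
  have h := key (-WithZero.log d).toNat c hc hc1
  refine h.trans (max_le le_rfl ?_)
  conv_rhs => rw [← WithZero.exp_log hne]
  rw [WithZero.exp_le_exp]
  omega

/-- The orbit product: the derivative of the minimal polynomial over the inertia field. -/
theorem aeval_derivative_inertia (Q : Place k K') [DecidableEq (RamG K Q 1)]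
    [Fintype (RamG K Q 1)] {t : K'}
    (hdeg : (minpoly (inertiaField K Q) t).natDegree = Fintype.card (RamG K Q 1)) :
    (∀ σ : RamG K Q 1, σ ≠ 1 → (σ : K' ≃ₐ[K] K') t ≠ t) ∧
    aeval t (derivative (minpoly (inertiaField K Q) t)) =
      ∏ σ ∈ Finset.univ.erase (1 : RamG K Q 1), (t - (σ : K' ≃ₐ[K] K') t) := by
  classical
  set L := inertiaField K Q
  have hint : IsIntegral L t := IsIntegral.of_finite L t
  have hfix : ∀ (σ : RamG K Q 1) (z : L), (σ : K' ≃ₐ[K] K') z = z := fun σ z =>
    z.2 σ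
  have htop : IntermediateField.adjoin L ({t} : Set K') = ⊤ := by
    refine IntermediateField.eq_of_le_of_finrank_eq le_top ?_
    rw [IntermediateField.adjoin.finrank hint, hdeg, IntermediateField.finrank_top',
      IntermediateField.finrank_fixedField_eq_card, Nat.card_eq_fintype_card]
  have hinj : ∀ σ τ : RamG K Q 1, (σ : K' ≃ₐ[K] K') t = (τ : K' ≃ₐ[K] K') t → σ = τ := by
    intro σ τ h
    let τ' : K' ≃ₐ[L] K' := AlgEquiv.ofRingEquiv (f := (τ : K' ≃ₐ[K] K').toRingEquiv) (hfix τ)
    let σ' : K' ≃ₐ[L] K' := AlgEquiv.ofRingEquiv (f := (σ : K' ≃ₐ[K] K').toRingEquiv) (hfix σ)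
    refine Subtype.ext (AlgEquiv.ext fun z => ?_)
    have hz : z ∈ IntermediateField.adjoin L ({t} : Set K') := htop ▸ IntermediateField.mem_top
    change σ' z = τ' z
    induction hz using IntermediateField.adjoin_induction with
    | algebraMap c => rw [σ'.commutes, τ'.commutes]
    | add _ _ _ _ h1 h2 => rw [map_add, map_add, h1, h2]
    | inv _ _ h1 => rw [map_inv₀, map_inv₀, h1]
    | mul _ _ _ _ h1 h2 => rw [map_mul, map_mul, h1, h2]
    | mem z hz => rw [Set.mem_singleton_iff] at hz; subst hz; exact h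
  refine ⟨fun σ hσ h => hσ (hinj σ 1 (by simpa using h)), ?_⟩
  set p : K'[X] := ∏ σ : RamG K Q 1, (X - C ((σ : K' ≃ₐ[K] K') t)) with hp
  have hmap : (minpoly L t).map (algebraMap L K') = p := by
    refine Polynomial.eq_of_monic_of_dvd_of_natDegree_le
      (monic_prod_of_monic _ _ fun σ _ => monic_X_sub_C _) ((minpoly.monic hint).map _) ?_ ?_
    · refine Finset.prod_dvd_of_coprime ?_ fun σ _ => ?_
      · intro σ _ τ _ hne
        exact isCoprime_X_sub_C_of_isUnit_sub (sub_ne_zero.2 fun h => hne (hinj σ τ h)).isUnit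
      · rw [dvd_iff_isRoot, IsRoot.def, eval_map_algebraMap]
        let σ' : K' ≃ₐ[L] K' := AlgEquiv.ofRingEquiv (f := (σ : K' ≃ₐ[K] K').toRingEquiv) (hfix σ)
        change aeval (σ' t) (minpoly L t) = 0
        rw [aeval_algHom_apply, minpoly.aeval, map_zero]
    · rw [natDegree_map, hdeg, hp, natDegree_prod_of_monic _ _ fun σ _ => monic_X_sub_C _]
      simp
  rw [← eval_map_algebraMap, ← derivative_map, hmap, hp, derivative_prod_finset, eval_finsetSum,
    Finset.sum_eq_single (1 : RamG K Q 1)]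
  · simp [eval_prod]
  · intro σ _ hσ
    rw [eval_mul, eval_prod, Finset.prod_eq_zero (Finset.mem_erase.2 ⟨hσ.symm, Finset.mem_univ _⟩)
      (by simp), zero_mul]
  · simp

theorem D_eval (ψ : K' →ₐ[k] F'⸨X⸩) (p : K'[X]) (t : K') :
    LocRes.D F' (ψ (p.eval t)) = p.sum (fun i c => ψ t ^ i * LocRes.D F' (ψ c)) +
      ψ ((derivative p).eval t) * LocRes.D F' (ψ t) := by
  induction p using Polynomial.induction_on' with
  | add p q hp hq =>
    rw [eval_add, map_add, map_add, hp, hq,
      Polynomial.sum_add_index p q (fun i c => ψ t ^ i * LocRes.D F' (ψ c)) (by simp) (by simp [mul_add]),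
      derivative_add, eval_add, map_add]
    ring
  | monomial i c =>
    rw [eval_monomial, map_mul, map_pow, Derivation.leibniz, Derivation.leibniz_pow,
      Polynomial.sum_monomial_index _ _ (by simp), derivative_monomial, eval_monomial]
    simp only [smul_eq_mul, nsmul_eq_mul, map_mul, map_natCast, map_pow]
    ring

theorem mem_RamG_iff_uniformizer [Algebra.IsSeparable k (IsLocalRing.ResidueField Q.O)] {t : K'}
    (ht : Q.1 t = exp (-1 : ℤ)) {i : ℕ} (hi : 1 ≤ i) {σ : K' ≃ₐ[K] K'} :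
    σ ∈ RamG K Q i ↔ σ ∈ RamG K Q 1 ∧ Q.1 (σ t - t) ≤ exp (-(i : ℤ)) := by
  refine ⟨fun h => ⟨RamG_mono Q hi h,
    h.2 t (by rw [ht, ← WithZero.exp_zero, WithZero.exp_le_exp]; norm_num)⟩, fun h => ?_⟩
  induction i, hi using Nat.le_induction with
  | base => exact h.1
  | succ i hi ih =>
    exact mem_RamG_succ hi (ih ⟨h.1, h.2.trans (by rw [WithZero.exp_le_exp]; omega)⟩) ht
      (h.2.trans_eq (by push_cast; rfl))

/-- Hilbert's different formula on the derivative. -/
theorem hilbert_formula (hF : IsFF k K) (hg : IsGeometric k K)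
    {F : Type*} [Field F] [Algebra k F] {P : Place k K} {e : ℕ} (he : IsOverWith Q P e)
    {φ : K →ₐ[k] F⸨X⸩} (hφ : LocRes.IsExpansionAt P.1 φ) (hψ : LocRes.IsExpansionAt Q.1 ψ)
    {x : K} (hx : LocRes.vDiff φ 1 x ≠ 0) (hx' : LocRes.vDiff ψ 1 (algebraMap K K' x) ≠ 0) :
    (Function.support fun i : ℕ => (Nat.card {σ : K' ≃ₐ[K] K' //
        ∀ z : K', Q.1 z ≤ 1 → Q.1 (σ z - z) ≤ exp (-(i : ℤ))} : ℤ) - 1).Finite ∧
    LocRes.diffExp φ ψ e x = ∑ᶠ i : ℕ, if 1 ≤ i then
      (Nat.card {σ : K' ≃ₐ[K] K' // ∀ z : K', Q.1 z ≤ 1 → Q.1 (σ z - z) ≤ exp (-(i : ℤ))} : ℤ) - 1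
      else 0 := by
  classical
  obtain ⟨x₁, hx₁⟩ := exists_smul_D_eq_top (K' := K') hF hg
  have := Residue.formallyUnramified_of_span hψ hx₁
  have hF' : IsFF k K' := hF.ext
  have hfinF : Module.Finite k F' := by
    letI : Algebra k (IsLocalRing.ResidueField Q.O) := Place.algRes Q
    have hfinR := Module.finite_of_finrank_pos (hF'.deg_pos Q)
    let g := constHom hψ
    let g' : IsLocalRing.ResidueField Q.O →ₐ[k] F' :=
      { toRingHom := Ideal.Quotient.lift (IsLocalRing.maximalIdeal Q.O) g.toRingHom fun a ha =>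
          (constHom_eq_zero_iff hψ a).2 ((residue_eq_zero_iff Q a).1
            (Ideal.Quotient.eq_zero_iff_mem.2 ha))
        commutes' := fun c => g.commutes c }
    refine Module.Finite.of_surjective (hM := hfinR) g'.toLinearMap fun a => ?_
    obtain ⟨z, hz⟩ := constHom_surjective hψ a
    exact ⟨IsLocalRing.residue Q.O z, hz⟩
  have : Algebra.IsSeparable k F' := Algebra.FormallyUnramified.isSeparable k F'
  have := isSeparable_residueField hψ
  have : Fintype (RamG K Q 1) := Fintype.ofFinite _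
  obtain ⟨R, hR, hrank⟩ := exists_inertia_place hF he
  obtain ⟨t, ht⟩ := hψ.2.2
  obtain ⟨hdeg, h0, hle⟩ := eisenstein hR hrank ht
  have hcard : Fintype.card (RamG K Q 1) = e := by
    rw [hrank, IntermediateField.finrank_fixedField_eq_card, Nat.card_eq_fintype_card]
  obtain ⟨hne1, hder⟩ := aeval_derivative_inertia Q (t := t) (by rw [hdeg, hcard])
  obtain ⟨u, hu⟩ := hφ.2.2
  obtain ⟨hneU, hd⟩ := diffExp_eq hF hg he hφ hψ hx hx' hu
  set U := algebraMap K K' u
  simp only [LocRes.vDiff, map_one, one_mul] at hneU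
  set d := Valued.v (LocRes.D F' (ψ U)) with hddef
  have hU : Q.1 U = exp (-(e : ℤ)) := by rw [he, hu, ← WithZero.exp_nsmul]; congr 1; simp
  have hU0 : U ≠ 0 := fun h => by rw [h, map_zero] at hU; exact WithZero.exp_ne_zero hU.symm
  -- coefficients
  set p := (minpoly (inertiaField K Q) t).map (algebraMap (inertiaField K Q) K') with hpdef
  have hpdeg : p.natDegree = e := by rw [hpdef, natDegree_map, hdeg]
  have hcoef : ∀ i < e, ∃ w ∈ inertiaField K Q, p.coeff i = U * w ∧ Q.1 w ≤ 1 ∧
      (i = 0 → Q.1 w = 1) := by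
    intro i hi
    have hv : Q.1 (p.coeff i) ≤ exp (-(e : ℤ)) ∧ (i = 0 → Q.1 (p.coeff i) = exp (-(e : ℤ))) := by
      rw [hpdef, coeff_map, hR]
      constructor
      · refine (pow_le_pow_left₀ zero_le (hle i hi) e).trans_eq ?_
        rw [← WithZero.exp_nsmul]; congr 1; simp
      · rintro rfl
        rw [h0, ← WithZero.exp_nsmul]; congr 1; simp
    refine ⟨p.coeff i / U, div_mem ?_ (IntermediateField.algebraMap_mem _ _),
      (mul_div_cancel₀ _ hU0).symm, ?_, fun h => ?_⟩
    · rw [hpdef, coeff_map]; exact SetLike.coe_mem _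
    · rw [map_div₀, hU, div_le_one₀ WithZero.exp_pos]; exact hv.1
    · rw [map_div₀, hU, hv.2 h, div_self WithZero.exp_ne_zero]
  have hDw : ∀ i < e, Valued.v (LocRes.D F' (ψ (p.coeff i))) ≤ d ∧
      (i = 0 → Valued.v (LocRes.D F' (ψ (p.coeff i))) = d) := by
    intro i hi
    obtain ⟨w, hwL, hwp, hw1, hw0⟩ := hcoef i hi
    have h1 := val_D_inertiaField hF hψ he hu hneU hwL hw1
    have hlt : Valued.v (ψ U * LocRes.D F' (ψ w)) < d := by
      rw [map_mul, hψ.1, hU]
      refine (mul_le_mul' le_rfl h1).trans_lt (mul_lt_of_lt_one_left (zero_lt_iff.2 hneU) ?_)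
      have := overWith_pos he
      rw [← WithZero.exp_zero, WithZero.exp_lt_exp]; omega
    rw [hwp, map_mul, Derivation.leibniz, smul_eq_mul, smul_eq_mul]
    have hvw : Valued.v (ψ w * LocRes.D F' (ψ U)) = Q.1 w * d := by rw [map_mul, hψ.1]
    refine ⟨(Valued.v.map_add _ _).trans (max_le hlt.le (hvw.trans_le (mul_le_of_le_one_left' hw1))),
      fun h => ?_⟩
    rw [hw0 h, one_mul] at hvw
    rw [Valuation.map_add_eq_of_lt_right _ (hlt.trans_eq hvw.symm), hvw]
  have he0 := overWith_pos he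
  have hS : Valued.v (p.sum fun i c => ψ t ^ i * LocRes.D F' (ψ c)) = d := by
    have htop : p.coeff e = 1 := by
      rw [← hpdeg]
      exact ((minpoly.monic (IsIntegral.of_finite _ t)).map _).coeff_natDegree
    rw [Polynomial.sum_over_range _ (by simp), hpdeg, Finset.sum_range_succ, htop,
      map_one, Derivation.map_one_eq_zero, mul_zero, add_zero,
      Valuation.map_sum_eq_of_lt (v := Valued.v) (Finset.mem_range.2 he0) fun i hi => ?_,
      pow_zero, one_mul, (hDw 0 he0).2 rfl]
    simp only [Finset.mem_sdiff, Finset.mem_range, Finset.mem_singleton] at hi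
    rw [pow_zero, one_mul, (hDw 0 he0).2 rfl, map_mul, map_pow, hψ.1, ht]
    refine (mul_le_mul' le_rfl (hDw i hi.1).1).trans_lt (mul_lt_of_lt_one_left (zero_lt_iff.2 hneU) ?_)
    rw [← WithZero.exp_nsmul, ← WithZero.exp_zero, WithZero.exp_lt_exp, nsmul_eq_mul]
    omega
  have hD := D_eval ψ p t
  rw [hpdef, eval_map_algebraMap, minpoly.aeval, map_zero, map_zero, derivative_map,
    eval_map_algebraMap, ← hpdef, hder, eq_comm, add_eq_zero_iff_eq_neg] at hD
  have hvt : Valued.v (LocRes.D F' (ψ t)) = 1 := by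
    have h1 := ordDiff_uniformizer hψ ht
    simp only [LocRes.ordDiff, LocRes.vDiff, map_one, one_mul, neg_eq_zero] at h1
    have h2 : Valued.v (LocRes.D F' (ψ t)) ≠ 0 := by
      rw [Valuation.ne_zero_iff]
      intro e0
      refine Residue.coeff_one_ne_zero hψ ht ?_
      rw [← Residue.D_coeff_zero, e0, HahnSeries.coeff_zero]
    rw [← WithZero.exp_log h2, h1, WithZero.exp_zero]
  have hprod := congrArg Valued.v hD
  rw [hS, Valuation.map_neg, map_mul, hψ.1, hvt, mul_one, map_prod] at hprod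
  -- counting
  set S := Finset.univ.erase (1 : RamG K Q 1)
  let n : RamG K Q 1 → ℕ := fun σ => (Q.ord ((σ : K' ≃ₐ[K] K') t - t)).toNat
  have hn : ∀ σ ∈ S, Q.1 ((σ : K' ≃ₐ[K] K') t - t) = exp (-(n σ : ℤ)) ∧ 1 ≤ n σ := fun σ hσ => by
    have hne0 := sub_ne_zero.2 (hne1 σ (Finset.ne_of_mem_erase hσ))
    have h1 := ((mem_RamG_iff_uniformizer ht le_rfl).1 σ.2).2
    rw [val_eq_exp_neg_ord Q hne0, WithZero.exp_le_exp] at h1
    refine ⟨?_, ?_⟩ <;> simp only [n]
    · rw [val_eq_exp_neg_ord Q hne0]; congr 1; omega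
    · omega
  have hcount : ∀ i : ℕ, 1 ≤ i → (Nat.card {σ : K' ≃ₐ[K] K' //
      ∀ z : K', Q.1 z ≤ 1 → Q.1 (σ z - z) ≤ exp (-(i : ℤ))} : ℤ) - 1 =
      (S.filter fun σ => i ≤ n σ).card := by
    intro i hi
    have e1 : {σ : K' ≃ₐ[K] K' // ∀ z : K', Q.1 z ≤ 1 → Q.1 (σ z - z) ≤ exp (-(i : ℤ))} ≃
        {σ : RamG K Q 1 // σ = 1 ∨ σ ∈ S ∧ i ≤ n σ} :=
      { toFun := fun σ => ⟨⟨σ.1, ((mem_RamG_iff_uniformizer ht hi).1 (mem_RamG_iff.2 σ.2)).1⟩, by
          by_cases h1 : (⟨σ.1, ((mem_RamG_iff_uniformizer ht hi).1 (mem_RamG_iff.2 σ.2)).1⟩ :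
              RamG K Q 1) = 1
          · exact Or.inl h1
          · refine Or.inr ⟨Finset.mem_erase.2 ⟨h1, Finset.mem_univ _⟩, ?_⟩
            have h2 := ((mem_RamG_iff_uniformizer ht hi).1 (mem_RamG_iff.2 σ.2)).2
            have h3 := (hn _ (Finset.mem_erase.2 ⟨h1, Finset.mem_univ _⟩)).1
            simp only at h3
            rw [h3, WithZero.exp_le_exp] at h2
            omega⟩
        invFun := fun σ => ⟨σ.1.1, by
          refine mem_RamG_iff.1 ?_
          rcases σ.2 with h | ⟨h, hle⟩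
          · rw [h]; exact one_mem _
          · refine (mem_RamG_iff_uniformizer ht hi).2 ⟨σ.1.2, ?_⟩
            rw [(hn _ h).1, WithZero.exp_le_exp]
            omega⟩
        left_inv := fun σ => rfl
        right_inv := fun σ => rfl }
    rw [Nat.card_congr e1, Nat.card_eq_fintype_card, Fintype.card_subtype]
    have : (Finset.univ.filter fun σ : RamG K Q 1 => σ = 1 ∨ σ ∈ S ∧ i ≤ n σ) =
        insert 1 (S.filter fun σ => i ≤ n σ) := by ext σ; simp
    rw [this, Finset.card_insert_of_notMem (by simp [S])]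
    simp
  set M := S.sup n
  have hzero : ∀ i, M < i → (Nat.card {σ : K' ≃ₐ[K] K' //
      ∀ z : K', Q.1 z ≤ 1 → Q.1 (σ z - z) ≤ exp (-(i : ℤ))} : ℤ) - 1 = 0 := fun i hi => by
    rw [hcount i (by omega), Nat.cast_eq_zero, Finset.card_eq_zero, Finset.filter_eq_empty_iff]
    intro σ hσ
    have := Finset.le_sup (f := n) hσ
    omega
  refine ⟨(Finset.range (M + 1)).finite_toSet.subset fun i hi => ?_, ?_⟩
  · rw [Finset.coe_range, Set.mem_Iio]
    by_contra h
    exact hi (hzero i (by omega))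
  rw [finsum_eq_sum_of_support_subset _ (s := Finset.Icc 1 M) fun i hi => by
    simp only [Function.mem_support, ne_eq, ite_eq_right_iff, not_forall] at hi
    obtain ⟨h1, h2⟩ := hi
    rw [Finset.coe_Icc, Set.mem_Icc]
    exact ⟨h1, not_lt.1 fun h => h2 (hzero i h)⟩]
  rw [Finset.sum_congr rfl (g := fun i => (((S.filter fun σ => i ≤ n σ).card : ℕ) : ℤ)) fun i hi => by
    rw [Finset.mem_Icc] at hi
    rw [if_pos hi.1, hcount i hi.1]]
  rw [← Nat.cast_sum, show (∑ i ∈ Finset.Icc 1 M, (S.filter fun σ => i ≤ n σ).card) = ∑ σ ∈ S, n σ by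
    simp only [Finset.card_filter]
    rw [Finset.sum_comm]
    refine Finset.sum_congr rfl fun σ hσ => ?_
    rw [← Finset.card_filter]
    have hle := Finset.le_sup (f := n) hσ
    rw [show (Finset.Icc 1 M).filter (fun i => i ≤ n σ) = Finset.Icc 1 (n σ) by ext; simp; omega]
    simp]
  rw [hd]
  simp only [LocRes.ordDiff, LocRes.vDiff, map_one, one_mul]
  rw [← hddef, hprod, Finset.prod_congr rfl (g := fun σ => exp (-(n σ : ℤ))) fun σ hσ => by
    rw [← neg_sub, Valuation.map_neg, (hn σ hσ).1]]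
  have hexp : ∀ T : Finset (RamG K Q 1),
      ∏ σ ∈ T, exp (-(n σ : ℤ)) = exp (-((∑ σ ∈ T, n σ : ℕ) : ℤ)) := fun T => by
    induction T using Finset.induction with
    | empty => simp
    | insert a T ha ih =>
      rw [Finset.prod_insert ha, Finset.sum_insert ha, ih, ← WithZero.exp_add]
      congr 1; push_cast; ring
  rw [hexp, WithZero.log_exp, neg_neg]

end Groth.Funfld2.Different
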