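import Groth.Agent.Funfld2.Different.Basic
import Groth.Agent.Funfld2.Residue.Canonical
import Groth.Agent.FunFld1.ConstComp

/-! The Hurwitz genus formula. -/

open FunFld Groth.FunFld1
open WithZero (exp)
open scoped LaurentSeries WithZero

set_option linter.unusedSectionVars false

namespace Groth.Funfld2.Different

universe u

section Canonical

variable {k : Type u} {K : Type*} [Field k] [Field K] [Algebra k K]

/-- The coefficient field of an expansion is finite over the constants. -/
theorem finiteDimensional_coeff (hF : IsFF k K) {P : Place k K} {F : Type*} [Field F] [Algebra k F]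
    {φ : K →ₐ[k] F⸨X⸩} (hφ : LocRes.IsExpansionAt P.1 φ) : FiniteDimensional k F := by
  let g : P.O →ₐ[k] F :=
    { toFun := fun a => (φ (a : K)).coeff 0
      map_one' := by simp
      map_zero' := by simp
      map_add' := fun a b => by simp
      map_mul' := fun a b => by
        have h : ∀ c : P.O, ∀ i < (0 : ℤ), (φ (c : K)).coeff i = 0 := fun c i hi =>
          Residue.coeff_eq_zero_of_val (N := 0) (by rw [hφ.1, WithZero.exp_zero]; exact c.2) (by omega)
        rw [MulMemClass.coe_mul, map_mul, Residue.coeff_mul_eq_sum (h a) (h b), sub_zero,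
          Finset.Icc_self, Finset.sum_singleton, sub_zero]
      commutes' := fun c => by
        change (φ (algebraMap k K c)).coeff 0 = _
        rw [LocRes.map_algebraMap]
        exact HahnSeries.coeff_single_same _ _ }
  have hker : ∀ a ∈ IsLocalRing.maximalIdeal P.O, g a = 0 := fun a ha => by
    have hv : P.1 (a : K) < 1 := (residue_eq_zero_iff P a).1 (Ideal.Quotient.eq_zero_iff_mem.2 ha)
    exact (LaurentSeries.valuation_le_iff_coeff_lt_eq_zero F).1
      ((hφ.1 _).trans_le (Groth.FunFld1.lt_one_iff_le_exp_neg_one.1 hv)) 0 (by omega)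
  letI : Algebra k (IsLocalRing.ResidueField P.O) := Place.algRes P
  have hfinR := Module.finite_of_finrank_pos (hF.deg_pos P)
  let g' : IsLocalRing.ResidueField P.O →ₐ[k] F :=
    { toRingHom := Ideal.Quotient.lift (IsLocalRing.maximalIdeal P.O) g.toRingHom hker
      commutes' := fun c => g.commutes c }
  refine Module.Finite.of_surjective (hM := hfinR) g'.toLinearMap fun a => ?_
  obtain ⟨f, hf, hfa⟩ := hφ.2.1 a
  exact ⟨IsLocalRing.residue P.O ⟨f, hf⟩, hfa⟩

theorem D_ne_zero {F : Type*} [Field F] [Algebra k F] {φ : K →ₐ[k] F⸨X⸩} {x : K}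
    (h : LocRes.vDiff φ 1 x ≠ 0) : KaehlerDifferential.D k K x ≠ 0 := by
  intro h0
  have e := dExp_smul φ (z := x) (c := 0) (by rw [zero_smul, h0])
  simp only [LocRes.vDiff, map_one, one_mul, ne_eq, map_eq_zero] at h
  rw [map_zero, zero_mul] at e
  exact h e

/-- The divisor of `dx` has degree `2g - 2`. -/
theorem deg_div_dx (hK : IsFunctionField k K) (hg : IsGeometric k K)
    {F : Place k K → Type*} [∀ P, Field (F P)] [∀ P, Algebra k (F P)]
    (φ : ∀ P, K →ₐ[k] (F P)⸨X⸩) (hφ : ∀ P, LocRes.IsExpansionAt P.1 (φ P))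
    {x : K} (hx : ∀ P, LocRes.vDiff (φ P) 1 x ≠ 0) :
    ∃ C : Divisor k K, (∀ P, C P = LocRes.ordDiff (φ P) 1 x) ∧
      C.deg = 2 * (genus k K : ℤ) - 2 := by
  have hF := IsFF.of_isFunctionField hK
  have : ∀ P, FiniteDimensional k (F P) := fun P => finiteDimensional_coeff hF (hφ P)
  obtain ⟨P₀⟩ := hF.nonempty_place
  have hD := D_ne_zero (hx P₀)
  obtain ⟨-, C, hC, hCP⟩ := Residue.exists_canonical hK φ hφ hg one_ne_zero hD
  exact ⟨C, hCP, deg_canonical hK ⟨_, Residue.resForm_ne_zero hK φ hφ hg one_ne_zero hD, hC⟩⟩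

end Canonical

variable {k k' : Type u} {K K' : Type*} [Field k] [Field k'] [Field K] [Field K'] [Algebra k k']
  [Algebra k K] [Algebra K K'] [Algebra k' K'] [Algebra k K'] [IsScalarTower k k' K']
  [IsScalarTower k K K'] [FiniteDimensional k k']

variable (k k') in
/-- Places of `K'` over `k` and over a finite extension `k'` of `k` inside `K'` agree. -/
noncomputable def placeUp : Place k K' ≃ Place k' K' where
  toFun Q := ⟨Q.1, fun c => not_lt.1 fun hc =>
    transcendental_of_one_lt_val Q hc ((Algebra.IsAlgebraic.isAlgebraic c).algebraMap), Q.2.2⟩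
  invFun R := ⟨R.1, fun c => by
    rw [IsScalarTower.algebraMap_apply k k' K']
    exact R.2.1 _, R.2.2⟩
  left_inv _ := rfl
  right_inv _ := rfl

theorem deg_placeUp (R : Place k' K') :
    ((placeUp k k').symm R).deg = Module.finrank k k' * R.deg := by
  letI i1 : Algebra k' (IsLocalRing.ResidueField ((placeUp k k').symm R).O) := FunFld.Place.algRes R
  have ht : IsScalarTower k k' (IsLocalRing.ResidueField ((placeUp k k').symm R).O) :=
    IsScalarTower.of_algebraMap_eq fun c => by
      show IsLocalRing.residue _ (algebraMap k ((placeUp k k').symm R).O c) =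
        IsLocalRing.residue R.O (algebraMap k' R.O (algebraMap k k' c))
      exact congrArg (IsLocalRing.residue R.O) (Subtype.ext (IsScalarTower.algebraMap_apply k k' K' c))
  exact (@Module.finrank_mul_finrank k k' (IsLocalRing.ResidueField ((placeUp k k').symm R).O)
    _ _ _ _ _ _ ht).symm

variable [FiniteDimensional K K'] [Algebra.IsSeparable K K']

/-- Riemann-Hurwitz. -/
theorem hurwitz (hK : IsFunctionField k K) (hg : IsGeometric k K) (hK' : IsFunctionField k' K')
    {F : Place k K → Type*} [∀ P, Field (F P)] [∀ P, Algebra k (F P)]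
    (φ : ∀ P, K →ₐ[k] (F P)⸨X⸩) (hφ : ∀ P, LocRes.IsExpansionAt P.1 (φ P))
    {F' : Place k' K' → Type*} [∀ Q, Field (F' Q)] [∀ Q, Algebra k' (F' Q)]
    (ψ : ∀ Q, K' →ₐ[k'] (F' Q)⸨X⸩) (hψ : ∀ Q, LocRes.IsExpansionAt Q.1 (ψ Q))
    (below : Place k' K' → Place k K) (e : Place k' K' → ℕ)
    (he : ∀ Q (z : K), Q.1 (algebraMap K K' z) = (below Q).1 z ^ e Q)
    {x : K} (hx : ∀ P, LocRes.vDiff (φ P) 1 x ≠ 0)
    (hx' : ∀ Q, LocRes.vDiff (ψ Q) 1 (algebraMap K K' x) ≠ 0) :
    (Function.support fun Q => LocRes.diffExp (φ (below Q)) (ψ Q) (e Q) x).Finite ∧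
    (Module.finrank k k' : ℤ) * (2 * (genus k' K' : ℤ) - 2) =
      (Module.finrank K K' : ℤ) * (2 * (genus k K : ℤ) - 2) +
      (Module.finrank k k' : ℤ) *
        ∑ᶠ Q, LocRes.diffExp (φ (below Q)) (ψ Q) (e Q) x * (Q.deg : ℤ) := by
  classical
  have hF := IsFF.of_isFunctionField hK
  have hg' : IsGeometric k' K' := isGeometric_of_separable hF hg hK'
  obtain ⟨C, hC, hdegC⟩ := deg_div_dx hK hg φ hφ hx
  obtain ⟨C', hC', hdegC'⟩ := deg_div_dx hK' hg' ψ hψ hx'
  set N := conorm K' C with hN
  let N' : Divisor k' K' := N.equivMapDomain (placeUp k k')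
  have hd : ∀ Q, LocRes.diffExp (φ (below Q)) (ψ Q) (e Q) x = (C' - N') Q := by
    intro Q
    have hover : IsOverWith ((placeUp k k').symm Q) (below Q) (e Q) := fun z => he Q z
    rw [LocRes.diffExp, ← hC', ← hC, Finsupp.sub_apply, Finsupp.equivMapDomain_apply, hN,
      hF.conorm_apply C hover]
  have hfin : (Function.support fun Q => LocRes.diffExp (φ (below Q)) (ψ Q) (e Q) x).Finite :=
    (C' - N').support.finite_toSet.subset fun Q hQ => by
      rw [Finset.mem_coe, Finsupp.mem_support_iff, ← hd]; exact hQ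
  refine ⟨hfin, ?_⟩
  have hsum : ∀ D : Divisor k' K', ∑ᶠ Q, D Q * (Q.deg : ℤ) = D.deg := fun D => by
    rw [finsum_eq_sum_of_support_subset _ (s := D.support) fun Q hQ => by
      rw [Finset.mem_coe, Finsupp.mem_support_iff]
      exact left_ne_zero_of_mul hQ]
    rfl
  have hNdeg : (Module.finrank k k' : ℤ) * N'.deg = N.deg := by
    simp only [N', Divisor.deg, Finsupp.sum_equivMapDomain]
    rw [Finsupp.mul_sum]
    refine Finsupp.sum_congr fun Q _ => ?_
    have := deg_placeUp (k := k) ((placeUp k k') Q)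
    rw [Equiv.symm_apply_apply] at this
    rw [this]
    push_cast
    ring
  rw [show (∑ᶠ Q, LocRes.diffExp (φ (below Q)) (ψ Q) (e Q) x * (Q.deg : ℤ)) = (C' - N').deg from
    (finsum_congr fun Q => by rw [hd]).trans (hsum _), deg_sub, hdegC']
  have e := hNdeg
  rw [hN, hF.deg_conorm, hdegC] at e
  linear_combination e

end Groth.Funfld2.Different
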