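import Groth.Agent.Funfld2.Different.Total
import Groth.Agent.FunFld1.IntClosure
import Mathlib.RingTheory.Norm.Basic
import Mathlib.RingTheory.Valuation.Extension
import Mathlib.FieldTheory.Minpoly.IsIntegrallyClosed

/-! The different exponent at a place with residue degree one. -/

open FunFld Groth.FunFld1
open WithZero (exp)
open scoped LaurentSeries WithZero

namespace Groth.Funfld2.Different

variable {k K K' : Type*} [Field k] [Field K] [Field K'] [Algebra k K] [Algebra K K']
  [Algebra k K'] [IsScalarTower k K K']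

theorem deg_eq_of_surjective {P : Place k K} {Q : Place k K'} [P.1.HasExtension Q.1]
    (hf : Function.Surjective
      (algebraMap (IsLocalRing.ResidueField P.O) (IsLocalRing.ResidueField Q.O))) :
    Q.deg = P.deg := by
  let f : IsLocalRing.ResidueField P.O →ₐ[k] IsLocalRing.ResidueField Q.O :=
    { toRingHom := algebraMap _ _
      commutes' := fun c => by
        change algebraMap _ _ (IsLocalRing.residue P.O (algebraMap k P.O c)) =
          IsLocalRing.residue Q.O (algebraMap k Q.O c)
        rw [IsLocalRing.ResidueField.algebraMap_residue]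
        congr 1
        exact Subtype.ext (IsScalarTower.algebraMap_apply k K K' c).symm }
  exact ((AlgEquiv.ofBijective f ⟨(algebraMap (IsLocalRing.ResidueField P.O)
    (IsLocalRing.ResidueField Q.O)).injective, hf⟩).toLinearEquiv.finrank_eq).symm

variable [FiniteDimensional K K']

/-- A parameter at `Q` that is a unit at the other places over `P` generates `K'`. -/
theorem generator_unit (hF : IsFF k K) {P : Place k K} {Q : Place k K'} (hQP : IsOver Q P)
    (hdeg : Q.deg = P.deg) {s : K'} (hs : Q.1 s = exp (-1 : ℤ))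
    (hs' : ∀ Q' : Place k K', IsOver Q' P → Q' ≠ Q → Q'.1 s = 1) :
    IntermediateField.adjoin K ({s} : Set K') = ⊤ ∧
      P.1 ((minpoly K s).coeff 0) = exp (-1 : ℤ) ∧
      ∀ i, P.1 ((minpoly K s).coeff i) ≤ 1 := by
  classical
  have hint : IsIntegral K s := IsIntegral.of_finite K s
  have hs0 : s ≠ 0 := fun h => by rw [h, map_zero] at hs; exact WithZero.exp_ne_zero hs.symm
  have hsum := hF.ord_norm P s
  rw [Finset.sum_eq_single Q (fun Q' hQ' hne => by
      simp [Place.ord, hs' Q' (hF.mem_above.1 hQ') hne])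
    (fun h => absurd (hF.mem_above.2 hQP) h), hdeg] at hsum
  have hQord : Q.ord s = 1 := by simp [Place.ord, hs]
  have hN : P.ord (Algebra.norm K s) = 1 := by
    rw [hQord] at hsum
    exact mul_left_cancel₀ (by have := hF.deg_pos P; omega) hsum
  have hnorm : Algebra.norm K s = ((-1) ^ (minpoly K s).natDegree * (minpoly K s).coeff 0) ^
      Module.finrank (IntermediateField.adjoin K ({s} : Set K')) K' := by
    rw [Algebra.norm_eq_norm_adjoin K s]
    congr 1
    have := Algebra.PowerBasis.norm_gen_eq_coeff_zero_minpoly (IntermediateField.adjoin.powerBasis hint)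
    rw [IntermediateField.adjoin.powerBasis_gen, IntermediateField.adjoin.powerBasis_dim,
      IntermediateField.minpoly_gen] at this
    exact this
  set r := Module.finrank (IntermediateField.adjoin K ({s} : Set K')) K'
  have hc0 : (minpoly K s).coeff 0 ≠ 0 := minpoly.coeff_zero_ne_zero hint hs0
  have hord : (r : ℤ) * P.ord ((minpoly K s).coeff 0) = 1 := by
    rw [← hN, hnorm]
    simp [Place.ord, map_pow, map_mul, Valuation.map_neg, WithZero.log_pow]
  have hr : r = 1 := by
    rcases Int.eq_one_or_neg_one_of_mul_eq_one hord with h | h <;> omega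
  rw [hr, Nat.cast_one, one_mul] at hord
  refine ⟨IntermediateField.finrank_eq_one_iff_eq_top.1 hr,
    by rw [val_eq_exp_neg_ord P hc0, hord], ?_⟩
  letI : Algebra P.O K' := ((algebraMap K K').comp P.O.subtype).toAlgebra
  haveI : IsScalarTower P.O K K' := IsScalarTower.of_algebraMap_eq fun _ => rfl
  have hi : IsIntegral P.O s := (hF.mem_integralClosure_iff P s).2 fun Q' hQ' => by
    rcases eq_or_ne Q' Q with rfl | hne
    · rw [hs, ← WithZero.exp_zero, WithZero.exp_le_exp]; norm_num
    · rw [hs' Q' hQ' hne]
  intro i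
  rw [minpoly.isIntegrallyClosed_eq_field_fractions' K hi, Polynomial.coeff_map]
  exact ((minpoly P.O s).coeff i).2

variable {F F' : Type*} [Field F] [Algebra k F] [Field F'] [Algebra k F']

/-- `d(Q|P) = v_Q(f'(s))` when `f(Q|P) = 1`. -/
theorem generator_diffExp (hF : IsFF k K) (hg : IsGeometric k K)
    {P : Place k K} {Q : Place k K'} {e : ℕ} (he : IsOverWith Q P e) [P.1.HasExtension Q.1]
    (hf : Function.Surjective
      (algebraMap (IsLocalRing.ResidueField P.O) (IsLocalRing.ResidueField Q.O)))
    {φ : K →ₐ[k] F⸨X⸩} (hφ : LocRes.IsExpansionAt P.1 φ)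
    {ψ : K' →ₐ[k] F'⸨X⸩} (hψ : LocRes.IsExpansionAt Q.1 ψ)
    {x : K} (hx : LocRes.vDiff φ 1 x ≠ 0) (hx' : LocRes.vDiff ψ 1 (algebraMap K K' x) ≠ 0)
    {s : K'} (hs : Q.1 s = exp (-1 : ℤ))
    (hs' : ∀ Q' : Place k K', IsOver Q' P → Q' ≠ Q → Q'.1 s = 1) :
    IntermediateField.adjoin K ({s} : Set K') = ⊤ ∧
      Q.ord (Polynomial.aeval s (Polynomial.derivative (minpoly K s))) =
        LocRes.diffExp φ ψ e x := by
  obtain ⟨htop, h0, hle⟩ :=
    generator_unit hF (overWith_isOver he) (deg_eq_of_surjective hf) hs hs'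
  have hint : IsIntegral K s := IsIntegral.of_finite K s
  exact ⟨htop, diffExp_of_equation hF hg he hφ hψ hx hx' hs (minpoly.natDegree_pos hint)
    (minpoly.monic hint) rfl (minpoly.aeval K s) h0 fun i _ => hle i⟩

end Groth.Funfld2.Different
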