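import Groth.Agent.Funfld2.Different.Basic
import Mathlib.FieldTheory.Minpoly.Field
import Mathlib.FieldTheory.Minpoly.Finite

/-! The different of a totally ramified place. -/

open FunFld Groth.FunFld1
open WithZero (exp)
open scoped LaurentSeries WithZero

namespace Groth.Funfld2.Different

section

variable {k K K' : Type*} [Field k] [Field K] [Field K'] [Algebra k K] [Algebra K K']
  [Algebra k K'] [IsScalarTower k K K']

omit [IsScalarTower k K K'] in
/-- The minimal polynomial of a local parameter at a totally ramified place is Eisenstein. -/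
theorem eisenstein [FiniteDimensional K K'] {P : Place k K} {Q : Place k K'} {e : ℕ}
    (he : IsOverWith Q P e) (hn : e = Module.finrank K K') {s : K'} (hs : Q.1 s = exp (-1 : ℤ)) :
    (minpoly K s).natDegree = e ∧ P.1 ((minpoly K s).coeff 0) = exp (-1 : ℤ) ∧
      ∀ i < e, P.1 ((minpoly K s).coeff i) ≤ exp (-1 : ℤ) := by
  classical
  set p := minpoly K s with hp
  have hmonic : p.Monic := minpoly.monic (IsIntegral.of_finite K s)
  set m := p.natDegree with hm
  have hme : m ≤ e := hn ▸ minpoly.natDegree_le s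
  set w : ℕ → ℤᵐ⁰ := fun i => Q.1 (algebraMap K K' (p.coeff i) * s ^ i) with hw
  have hval : ∀ i, p.coeff i ≠ 0 → w i = exp (-((e : ℤ) * P.ord (p.coeff i) + i)) := by
    intro i hi
    simp only [hw]
    rw [map_mul, map_pow, hs, he, val_eq_exp_neg_ord P hi, ← WithZero.exp_nsmul,
      ← WithZero.exp_nsmul, ← WithZero.exp_add]
    congr 1
    simp only [nsmul_eq_mul]
    ring
  have hsum : ∑ i ∈ Finset.range (m + 1), algebraMap K K' (p.coeff i) * s ^ i = 0 := by
    rw [← minpoly.aeval K s, Polynomial.aeval_eq_sum_range]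
    simp only [Algebra.smul_def, hp, hm]
  obtain ⟨i₀, hi₀, hmax⟩ := Finset.exists_max_image (Finset.range (m + 1)) w ⟨0, by simp⟩
  have htop : w m = exp (-(m : ℤ)) := by
    rw [hval m (by rw [hm, hmonic.coeff_natDegree]; exact one_ne_zero)]
    rw [hm, hmonic.coeff_natDegree]
    congr 1
    simp [Place.ord]
  have hw0 : w i₀ ≠ 0 := fun h => by
    have := hmax m (by simp)
    rw [h, htop, le_zero_iff] at this
    exact WithZero.exp_ne_zero this
  have hci : p.coeff i₀ ≠ 0 := fun h => hw0 (by simp [hw, h])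
  -- the maximum is attained twice
  obtain ⟨j, hj, hjne, hwj⟩ : ∃ j ∈ Finset.range (m + 1), j ≠ i₀ ∧ w j = w i₀ := by
    by_contra! hcon
    have := Valuation.map_sum_eq_of_lt (v := Q.1)
      (f := fun i => algebraMap K K' (p.coeff i) * s ^ i) hi₀ fun i hi => by
        simp only [Finset.mem_sdiff, Finset.mem_singleton] at hi
        exact lt_of_le_of_ne (hmax i hi.1) (hcon i hi.1 hi.2)
    rw [hsum, map_zero] at this
    exact hw0 this.symm
  have hcj : p.coeff j ≠ 0 := fun h => hw0 (by rw [← hwj]; simp [hw, h])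
  rw [Finset.mem_range] at hi₀ hj
  have he0 : (0 : ℤ) < e := by exact_mod_cast overWith_pos he
  rw [hval j hcj, hval i₀ hci, WithZero.exp_inj, neg_inj] at hwj
  -- two distinct residues modulo `e` in `[0, e]` are `0` and `e`
  have key : ∀ a b : ℕ, a < b → b ≤ m → (e : ℤ) * P.ord (p.coeff b) + b =
      e * P.ord (p.coeff a) + a → a = 0 ∧ m = e ∧ b = m ∧ P.ord (p.coeff a) = 1 := by
    intro a b hab hbm h
    have h1 : (e : ℤ) * (P.ord (p.coeff a) - P.ord (p.coeff b)) = (b : ℤ) - a := by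
      rw [mul_sub]; omega
    have h2 : 1 ≤ P.ord (p.coeff a) - P.ord (p.coeff b) := by
      by_contra hlt
      have := mul_nonpos_of_nonneg_of_nonpos he0.le (show P.ord (p.coeff a) - P.ord (p.coeff b) ≤ 0 by omega)
      omega
    have h3 : (e : ℤ) ≤ (b : ℤ) - a := h1 ▸ le_mul_of_one_le_right he0.le h2
    have hbm' : b = m := by omega
    subst hbm'
    have hb0 : P.ord (p.coeff m) = 0 := by
      rw [hm, hmonic.coeff_natDegree]; simp [Place.ord]
    refine ⟨by omega, by omega, rfl, ?_⟩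
    have h4 : P.ord (p.coeff a) - P.ord (p.coeff m) = 1 := by
      refine le_antisymm (not_lt.1 fun hlt => ?_) h2
      have := le_mul_of_one_le_right he0.le (show (1 : ℤ) ≤ P.ord (p.coeff a) - P.ord (p.coeff m) - 1 by omega)
      rw [mul_sub, mul_one] at this
      omega
    omega
  have main : m = e ∧ P.ord (p.coeff 0) = 1 ∧ p.coeff 0 ≠ 0 ∧ w i₀ = exp (-(e : ℤ)) := by
    rcases lt_or_gt_of_ne hjne with hlt | hlt
    · obtain ⟨rfl, h1, rfl, h2⟩ := key j i₀ hlt (by omega) hwj.symm
      exact ⟨h1, h2, hcj, h1 ▸ htop⟩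
    · obtain ⟨rfl, h1, rfl, h2⟩ := key i₀ j hlt (by omega) hwj
      refine ⟨h1, h2, hci, ?_⟩
      rw [hval 0 hci, h2]; congr 1; push_cast; ring
  obtain ⟨hme', hord, hc0, hwmax⟩ := main
  refine ⟨hme', by rw [val_eq_exp_neg_ord P hc0, hord], fun i hi => ?_⟩
  by_cases hpi : p.coeff i = 0
  · rw [hpi, map_zero]; exact zero_le
  have h1 := hmax i (by simp; omega)
  rw [hwmax, hval i hpi, WithZero.exp_le_exp] at h1
  rw [val_eq_exp_neg_ord P hpi, WithZero.exp_le_exp]
  by_contra hcon
  have := mul_nonpos_of_nonneg_of_nonpos he0.le (show P.ord (p.coeff i) ≤ 0 by omega)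
  omega

variable {F F' : Type*} [Field F] [Algebra k F] [Field F'] [Algebra k F']

theorem val_D_le_one {f : F⸨X⸩} (hf : Valued.v f ≤ 1) : Valued.v (LocRes.D F f) ≤ 1 := by
  rw [← WithZero.exp_zero, show (0 : ℤ) = -0 by norm_num]
  refine (LaurentSeries.valuation_le_iff_coeff_lt_eq_zero F).2 fun i hi => ?_
  rw [← WithZero.exp_zero] at hf
  rw [LocRes.D_coeff]
  rcases (Int.add_one_le_iff.2 hi).lt_or_eq with h | h
  · rw [Residue.coeff_eq_zero_of_val hf (by omega), smul_zero]
  · rw [h, zero_smul]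

/-- `d(Q|P) = v_Q(p'(s))` for an integral equation `p(s) = 0` with constant term a local parameter. -/
theorem diffExp_of_equation (hF : IsFF k K) (hg : IsGeometric k K)
    {P : Place k K} {Q : Place k K'} {e : ℕ}
    (he : IsOverWith Q P e) {φ : K →ₐ[k] F⸨X⸩} (hφ : LocRes.IsExpansionAt P.1 φ)
    {ψ : K' →ₐ[k] F'⸨X⸩} (hψ : LocRes.IsExpansionAt Q.1 ψ)
    {x : K} (hx : LocRes.vDiff φ 1 x ≠ 0) (hx' : LocRes.vDiff ψ 1 (algebraMap K K' x) ≠ 0)
    {s : K'} (hs : Q.1 s = exp (-1 : ℤ)) {p : Polynomial K} {m : ℕ} (hm : 0 < m)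
    (hmonic : p.Monic) (hdeg : p.natDegree = m) (hroot : Polynomial.aeval s p = 0)
    (h0 : P.1 (p.coeff 0) = exp (-1 : ℤ)) (hle : ∀ i < m, P.1 (p.coeff i) ≤ 1) :
    Q.ord (Polynomial.aeval s (Polynomial.derivative p)) = LocRes.diffExp φ ψ e x := by
  classical
  set t := p.coeff 0 with ht
  obtain ⟨hne, hd⟩ := diffExp_eq hF hg he hφ hψ hx hx' h0
  rw [hd]
  obtain ⟨x₁, hx₁⟩ := Residue.exists_smul_D_eq hF hg
  obtain ⟨a, ha⟩ := hx₁ (KaehlerDifferential.D k K t)
  have hφt : LocRes.ordDiff φ 1 t = 0 := ordDiff_uniformizer hφ h0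
  have ha0 : a ≠ 0 := fun e0 => by
    refine Residue.coeff_one_ne_zero hφ h0 ?_
    rw [← Residue.D_coeff_zero, dExp_smul φ ha, e0, map_zero, zero_mul, HahnSeries.coeff_zero]
  have hφne : LocRes.vDiff φ 1 t ≠ 0 := by
    simp only [LocRes.vDiff, map_one, one_mul]
    rw [Valuation.ne_zero_iff]
    intro e0
    refine Residue.coeff_one_ne_zero hφ h0 ?_
    rw [← Residue.D_coeff_zero, e0, HahnSeries.coeff_zero]
  have hDle : ∀ i, ∃ c : K, c • KaehlerDifferential.D k K t = KaehlerDifferential.D k K (p.coeff i) ∧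
      (P.1 (p.coeff i) ≤ 1 → P.1 c ≤ 1) := by
    intro i
    obtain ⟨b, hb⟩ := hx₁ (KaehlerDifferential.D k K (p.coeff i))
    have hc : (b / a) • KaehlerDifferential.D k K t = KaehlerDifferential.D k K (p.coeff i) := by
      rw [← ha, smul_smul, div_mul_cancel₀ _ ha0, hb]
    refine ⟨b / a, hc, fun h1 => ?_⟩
    have h2 := val_D_le_one (F := F) ((hφ.1 _).le.trans h1)
    rw [dExp_smul φ hc, map_mul, hφ.1] at h2
    simp only [LocRes.ordDiff, LocRes.vDiff, map_one, one_mul, neg_eq_zero] at hφt hφne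
    rw [← WithZero.exp_log hφne, hφt, WithZero.exp_zero, mul_one] at h2
    exact h2
  choose c hc hc1 using hDle
  -- differentiate `p(s) = 0`
  set S : K' := ∑ i ∈ Finset.range m, algebraMap K K' (c i) * s ^ i with hS
  have hsum : s ^ m + ∑ i ∈ Finset.range m, algebraMap K K' (p.coeff i) * s ^ i = 0 := by
    have h1 := hroot
    rw [Polynomial.aeval_eq_sum_range, Finset.sum_range_succ, hdeg] at h1
    simp only [Algebra.smul_def] at h1
    rw [show p.coeff m = 1 by rw [← hdeg]; exact hmonic.coeff_natDegree,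
      map_one, one_mul, add_comm] at h1
    exact h1
  let _i := ψ.toRingHom.toAlgebra
  have _t : IsScalarTower k K' F'⸨X⸩ := LocRes.isScalarTower_exp ψ
  have hdiff : ψ (Polynomial.aeval s (Polynomial.derivative p)) * LocRes.D F' (ψ s) +
      ψ S * LocRes.D F' (ψ (algebraMap K K' t)) = 0 := by
    let Dd := LocRes.dExp ψ
    have h1 : Dd (s ^ m + ∑ i ∈ Finset.range m, algebraMap K K' (p.coeff i) * s ^ i) = 0 := by
      rw [hsum, map_zero]
    have hder : Polynomial.aeval s (Polynomial.derivative p) =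
        (m : K') * s ^ (m - 1) +
          ∑ i ∈ Finset.range m, algebraMap K K' (p.coeff i) * ((i : K') * s ^ (i - 1)) := by
      conv_lhs => rw [p.as_sum_range_C_mul_X_pow, hdeg, Finset.sum_range_succ,
        show p.coeff m = 1 by rw [← hdeg]; exact hmonic.coeff_natDegree]
      simp only [map_add, map_sum, Polynomial.derivative_C_mul_X_pow, map_mul, map_one, one_mul,
        Polynomial.aeval_C, map_pow, Polynomial.aeval_X, Polynomial.derivative_X_pow, map_natCast]
      rw [add_comm]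
      refine congrArg₂ _ rfl (Finset.sum_congr rfl fun i _ => ?_)
      ring
    rw [map_add, map_sum, Derivation.leibniz_pow] at h1
    simp only [Derivation.leibniz, Derivation.leibniz_pow] at h1
    rw [hder, hS, map_add, map_sum, map_sum, add_mul, Finset.sum_mul, Finset.sum_mul, add_assoc,
      ← Finset.sum_add_distrib]
    refine Eq.trans ?_ h1
    refine congrArg₂ (· + ·) ?_ (Finset.sum_congr rfl fun i _ => ?_)
    · rw [map_mul, map_natCast, map_pow, nsmul_eq_mul]
      change _ = (m : F'⸨X⸩) * (ψ (s ^ (m - 1)) * LocRes.D F' (ψ s))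
      rw [map_pow, mul_assoc]
    · have h2 : LocRes.D F' (ψ (algebraMap K K' (p.coeff i))) =
          ψ (algebraMap K K' (c i)) * LocRes.D F' (ψ (algebraMap K K' t)) :=
        dExp_smul ψ (map_smul_D (K' := K') (hc i))
      change _ = ψ (algebraMap K K' (p.coeff i)) * (i • (ψ (s ^ (i - 1)) * LocRes.D F' (ψ s))) +
        ψ (s ^ i) * LocRes.D F' (ψ (algebraMap K K' (p.coeff i)))
      rw [h2, nsmul_eq_mul, map_mul, map_mul, map_mul, map_natCast, map_pow]
      ring
  have hc0 : c 0 = 1 := by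
    have h1 := hc 0
    rw [← ht] at h1
    by_contra hne1
    have h2 := dExp_smul φ h1
    simp only [LocRes.vDiff, map_one, one_mul, Valuation.ne_zero_iff] at hφne
    have h3 : φ (c 0) = 1 := mul_right_cancel₀ hφne (by rw [one_mul]; exact h2.symm)
    exact hne1 (φ.toRingHom.injective (by rw [AlgHom.toRingHom_eq_coe, RingHom.coe_coe, h3, map_one]))
  have hvS : Q.1 S = 1 := by
    rw [hS, Valuation.map_sum_eq_of_lt (v := Q.1) (Finset.mem_range.2 hm) fun i hi => ?_]
    · rw [hc0, map_one, pow_zero, one_mul, map_one]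
    · simp only [Finset.mem_sdiff, Finset.mem_range, Finset.mem_singleton] at hi
      rw [hc0, map_one, pow_zero, one_mul, map_one, map_mul, map_pow, hs, ← WithZero.exp_nsmul]
      refine (mul_le_of_le_one_left' ((overWith_le_one_iff he (c i)).2
        (hc1 i (hle i hi.1)))).trans_lt ?_
      rw [← WithZero.exp_zero, WithZero.exp_lt_exp, nsmul_eq_mul]
      omega
  have hDs : LocRes.ordDiff ψ 1 s = 0 := ordDiff_uniformizer hψ hs
  have hDs0 : Valued.v (LocRes.D F' (ψ s)) ≠ 0 := by
    rw [Valuation.ne_zero_iff]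
    intro e0
    refine Residue.coeff_one_ne_zero hψ hs ?_
    rw [← Residue.D_coeff_zero, e0, HahnSeries.coeff_zero]
  have h4 := congrArg Valued.v (eq_neg_of_add_eq_zero_left hdiff)
  rw [map_mul, Valuation.map_neg, map_mul, hψ.1, hψ.1, hvS, one_mul] at h4
  simp only [LocRes.ordDiff, LocRes.vDiff, map_one, one_mul, neg_eq_zero] at hDs ⊢
  rw [← WithZero.exp_log hDs0, hDs, WithZero.exp_zero, mul_one] at h4
  rw [← h4]
  rfl


/-- `d(Q|P) = v_Q(f'(s))` at a totally ramified place. -/
theorem diffExp_totally [FiniteDimensional K K'] (hF : IsFF k K) (hg : IsGeometric k K)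
    {P : Place k K} {Q : Place k K'} {e : ℕ}
    (he : IsOverWith Q P e) {φ : K →ₐ[k] F⸨X⸩} (hφ : LocRes.IsExpansionAt P.1 φ)
    {ψ : K' →ₐ[k] F'⸨X⸩} (hψ : LocRes.IsExpansionAt Q.1 ψ)
    {x : K} (hx : LocRes.vDiff φ 1 x ≠ 0) (hx' : LocRes.vDiff ψ 1 (algebraMap K K' x) ≠ 0)
    (hn : e = Module.finrank K K') {s : K'} (hs : Q.1 s = exp (-1 : ℤ)) :
    Q.ord (Polynomial.aeval s (Polynomial.derivative (minpoly K s))) =
      LocRes.diffExp φ ψ e x := by
  classical
  obtain ⟨hdeg, h0, hle⟩ := eisenstein he hn hs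
  exact diffExp_of_equation hF hg he hφ hψ hx hx' hs (overWith_pos he)
    (minpoly.monic (IsIntegral.of_finite K s)) hdeg (minpoly.aeval K s) h0
    fun i hi => (hle i hi).trans (by rw [← WithZero.exp_zero, WithZero.exp_le_exp]; norm_num)

end

end Groth.Funfld2.Different
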